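import Mathlib

/-!
# Elementary facts on the symmetric and the alternating group of degree five
-/

set_option autoImplicit false
set_option maxRecDepth 100000
set_option synthInstance.maxHeartbeats 400000
set_option synthInstance.maxSize 2000

namespace CfsgLib.KimuraFive.Alt

open Equiv

local notation "A5" => alternatingGroup (Fin 5)

/-- The involution `(0 1)(2 3)`. -/
def t₀ : A5 := ⟨swap 0 1 * swap 2 3, Perm.mem_alternatingGroup.2 (by decide)⟩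

/-- The involution `(0 2)(1 3)`. -/
def v₀ : A5 := ⟨swap 0 2 * swap 1 3, Perm.mem_alternatingGroup.2 (by decide)⟩

/-- The transposition `(0 1)`. -/
def s₀ : Perm (Fin 5) := swap 0 1

theorem card_five : Nat.card A5 = 60 := by
  rw [Nat.card_eq_fintype_card]; decide +kernel

theorem t₀_sq : t₀ * t₀ = 1 ∧ t₀ ≠ 1 := by decide +kernel

theorem v₀_sq : v₀ * v₀ = 1 ∧ v₀ ≠ 1 := by decide +kernel

theorem v₀_facts : v₀ * t₀ = t₀ * v₀ ∧ v₀ ≠ t₀ ∧ (v₀ * t₀) * (v₀ * t₀) = 1 ∧ v₀ * t₀ ≠ 1 := by decide +kernel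

theorem inv_conj : ∀ x : A5, x * x = 1 → x ≠ 1 → ∃ h : A5, h * t₀ * h⁻¹ = x := by
  decide +kernel

theorem inv_count : (Finset.univ.filter fun x : A5 => x * x = 1 ∧ x ≠ 1).card = 15 := by
  decide +kernel

theorem cent_t₀ : ∀ g : A5, g * t₀ = t₀ * g → g = 1 ∨ g = t₀ ∨ g = v₀ ∨ g = v₀ * t₀ := by
  decide +kernel

theorem center_trivial : ∀ g : A5, g * t₀ = t₀ * g → (∃ h : A5, g * h ≠ h * g) ∨ g = 1 := by
  decide +kernel

theorem eq_one_of_central (g : A5) (h : ∀ x : A5, g * x = x * g) : g = 1 :=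
  (center_trivial g (h t₀)).resolve_left fun ⟨x, hx⟩ => hx (h x)

theorem not_all_commute : ∃ x y : A5, x * x = 1 ∧ x ≠ 1 ∧ y * y = 1 ∧ y ≠ 1 ∧ x * y ≠ y * x := by
  decide +kernel

theorem fix_four : ∀ g : A5, (g : Perm (Fin 5)) 4 = 4 → g⁻¹ * t₀ * g = t₀ ∨ g⁻¹ * t₀ * g = v₀ ∨
    g⁻¹ * t₀ * g = v₀ * t₀ := by
  decide +kernel

theorem card_fix_four : (Finset.univ.filter fun g : A5 => (g : Perm (Fin 5)) 4 = 4).card = 12 := by
  decide +kernel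

theorem odd_inv_conj : ∀ π : Perm (Fin 5), π * π = 1 → Perm.sign π = -1 →
    ∃ h : A5, (h : Perm (Fin 5)) * s₀ * (h : Perm (Fin 5))⁻¹ = π := by
  decide +kernel

theorem odd_inv_count :
    (Finset.univ.filter fun π : Perm (Fin 5) => π * π = 1 ∧ Perm.sign π = -1).card = 10 := by
  decide +kernel

theorem s₀_facts : s₀ * s₀ = 1 ∧ Perm.sign s₀ = -1 ∧ s₀ * (t₀ : Perm (Fin 5)) = (t₀ : Perm (Fin 5)) * s₀ ∧
    s₀ * (v₀ : Perm (Fin 5)) * s₀⁻¹ = (v₀ : Perm (Fin 5)) * (t₀ : Perm (Fin 5)) ∧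
    (s₀ * (v₀ : Perm (Fin 5))) * (s₀ * (v₀ : Perm (Fin 5))) = (t₀ : Perm (Fin 5)) ∧
    (s₀ * (v₀ : Perm (Fin 5)) * (t₀ : Perm (Fin 5))) * (s₀ * (v₀ : Perm (Fin 5)) * (t₀ : Perm (Fin 5))) =
      (t₀ : Perm (Fin 5)) := by
  decide +kernel

attribute [irreducible] t₀ v₀ s₀

end CfsgLib.KimuraFive.Alt
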