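import Cfsg.Agent.Lib.Perm.KimuraFive.Embed
import Cfsg.Agent.Lib.Perm.KimuraFour.OddCaseB
import Cfsg.Agent.Lib.Perm.KimuraFour.Fusion

/-!
# No central swap
-/

set_option autoImplicit false

namespace CfsgLib.KimuraFive

open MulAction CfsgLib.KimuraFour

variable {G : Type*} [Group G] [Finite G] {Ω : Type*} [MulAction G Ω] [Finite Ω]

local notation "A5" => alternatingGroup (Fin 5)
local notation "Cent" J:max => Subgroup.centralizer (Singleton.singleton J : Set _)

/-- The absence of a regular normal subgroup. -/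
def NoRegular (G : Type*) [Group G] (Ω : Type*) [MulAction G Ω] : Prop :=
  ∀ N : Subgroup G, N.Normal → MulAction.IsPretransitive ↥N Ω →
    (∀ x : Ω, MulAction.stabilizer ↥N x = ⊥) → False

omit [Finite G] [Finite Ω] in
theorem NoRegular.not_regular (hnr : NoRegular G Ω) {N : Subgroup G} (hn : N.Normal)
    (htr : ∀ c d : Ω, ∃ x ∈ N, x • c = d) (hfree : ∀ x ∈ N, ∀ c : Ω, x • c = c → x = 1) : False := by
  refine hnr N hn ⟨fun c d => ?_⟩ fun c => eq_bot_iff.2 fun x hx => Subgroup.mem_bot.2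
    (Subtype.ext (hfree x.1 x.2 c hx))
  obtain ⟨x, hx, h⟩ := htr c d
  exact ⟨⟨x, hx⟩, h⟩

/-- A transitive normal subgroup meeting the two-point stabiliser trivially yields a regular normal subgroup. -/
theorem not_normal_sharp {a b : Ω} {f : A5 →* G} (S : Setting G Ω a b f) (hnr : NoRegular G Ω) {W : Subgroup G}
    [hWn : W.Normal] [IsPretransitive W Ω] (hWH : ∀ x : A5, f x ∈ W → x = 1) : False := by
  classical
  haveI := S.faithful
  haveI := Fintype.ofFinite Ω
  have hsharp : ∀ x : W, ∀ d e : Ω, d ≠ e → x • d = d → x • e = e → x = 1 := by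
    rintro ⟨x, hx⟩ d e hde hd he
    obtain ⟨g, hg1, hg2⟩ := exists_smul_pair S.two S.ne hde
    change g • a = d at hg1
    change g • b = e at hg2
    have hm : g⁻¹ * x * g ∈ (pairStab a b : Subgroup G) := by
      rw [← conj_mem_pairStab_iff g, show g * (g⁻¹ * x * g) * g⁻¹ = x by group, hg1, hg2]
      exact mem_pairStab.2 ⟨hd, he⟩
    obtain ⟨y, hy⟩ := S.exists_preimage hm
    have hyW : f y ∈ W := by rw [hy]; simpa using hWn.conj_mem x hx g⁻¹
    rw [hWH y hyW, map_one] at hy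
    exact Subtype.ext (conj_eq_one_iff.1 (show g⁻¹ * x * (g⁻¹)⁻¹ = 1 by rw [inv_inv]; exact hy.symm))
  have h2' : 2 ≤ Fintype.card Ω := Fintype.one_lt_card_iff.2 ⟨a, b, S.ne⟩
  obtain ⟨K, -, hKm, hKc⟩ := CfsgLib.Perm.SharplyTwo.exists_fpf_kernel a h2' hsharp
  let N : Subgroup G := K.map W.subtype
  have hmem : ∀ x : G, x ∈ N ↔ x ∈ W ∧ (x = 1 ∨ ∀ y : Ω, x • y ≠ y) := by
    intro x
    constructor
    · rintro ⟨⟨y, hy⟩, hyK, rfl⟩
      exact ⟨hy, ((hKm _).1 hyK).imp (fun h => congrArg Subtype.val h) fun h => h⟩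
    · rintro ⟨hx, h⟩
      exact ⟨⟨x, hx⟩, (hKm _).2 (h.imp (fun e => Subtype.ext e) fun e => e), rfl⟩
  have hfree : ∀ x ∈ N, ∀ y : Ω, x • y = y → x = 1 := fun x hx y h =>
    ((hmem x).1 hx).2.resolve_right fun e => e y h
  have hNcard : Nat.card N = Nat.card Ω := by
    rw [← Nat.card_congr (K.equivMapOfInjective W.subtype W.subtype_injective).toEquiv, hKc,
      Nat.card_eq_fintype_card]
  refine hnr.not_regular (N := N) ⟨fun x hx g => (hmem _).2 ⟨hWn.conj_mem x ((hmem x).1 hx).1 g,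
    ((hmem x).1 hx).2.imp (fun e => by rw [e]; group) fun e y hy => e (g⁻¹ • y) (by
      rwa [mul_smul, mul_smul, ← eq_inv_smul_iff] at hy)⟩⟩ (fun d e => ?_) hfree
  have hb : Function.Bijective (fun x : N => (x : G) • d) :=
    (Nat.bijective_iff_injective_and_card _).2 ⟨fun x y h => Subtype.ext (inv_mul_eq_one.1 (hfree _
      (mul_mem (inv_mem x.2) y.2) d (by
        change (x : G) • d = (y : G) • d at h
        rw [mul_smul, ← h, inv_smul_smul]))), hNcard⟩
  obtain ⟨⟨x, hx⟩, h⟩ := hb.2 e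
  exact ⟨x, hx, h⟩

/-- Conjugating a moved point into the base pair. -/
theorem exists_conj_base {a b : Ω} (h2 : IsMultiplyPretransitive G Ω 2) (hab : a ≠ b) {x : G} {c : Ω}
    (hc : x • c ≠ c) : ∃ g : G, (g⁻¹ * x * g) • a = b ∧ g • a = c := by
  obtain ⟨g, hg1, hg2⟩ := exists_smul_pair h2 hab (Ne.symm hc)
  refine ⟨g, ?_, hg1⟩
  rw [mul_smul, mul_smul, hg1, ← hg2, inv_smul_smul]

theorem isConj_all [FaithfulSMul G Ω] {a b : Ω} (h2 : IsMultiplyPretransitive G Ω 2) (hab : a ≠ b) {J : G}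
    (h : ∀ x : G, orderOf x = 2 → x • a = b → IsConj J x) {x : G} (hx : orderOf x = 2) : IsConj J x := by
  obtain ⟨c, hc⟩ : ∃ c : Ω, x • c ≠ c := by
    by_contra hcon
    push Not at hcon
    have : x = 1 := eq_of_smul_eq_smul fun c : Ω => by rw [hcon, one_smul]
    simp [this] at hx
  obtain ⟨g, hg, -⟩ := exists_conj_base h2 hab hc
  refine (h _ ?_ hg).trans (isConj_iff.2 ⟨g, by group⟩)
  simpa using (orderOf_conj_eq g⁻¹ x).trans hx

omit [Finite G] [Finite Ω] in
theorem induce_mul_fix {x : G} (g k : ↥(Cent x)) (hk : ∀ c : Ω, x • c = c → (k : G) • c = c) :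
    induce Ω x (g * k) = induce Ω x g := by
  rw [map_mul, (induce_eq_one_iff k).2 hk, mul_one]

omit [Finite G] [Finite Ω] in
theorem induce_mul' {x : G} (g k : ↥(Cent x)) : induce Ω x (g * k) = induce Ω x g * induce Ω x k :=
  map_mul _ g k

omit [Finite G] [Finite Ω] in
theorem induce_sq {x : G} (g : ↥(Cent x)) (hg : g * g = 1) : induce Ω x g * induce Ω x g = 1 := by
  rw [← map_mul, hg, map_one]

namespace Setting

variable {a b : Ω} {f : A5 →* G} (S : Setting G Ω a b f) {z : G} (hz : CenSwap a b z)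

include S hz

local notation "J" => f Alt.t₀

omit [Finite G] [Finite Ω] in
theorem censwap_cent : z ∈ Cent J :=
  Subgroup.mem_centralizer_singleton_iff.2 (hz.2.2 _ (S.mem _))

theorem isConj_swap [FaithfulSMul G Ω] : IsConj J z ∨ IsConj J (z * J) := by
  obtain ⟨x, hx, hxa⟩ := S.invData.exists_conj_swap
  rcases S.swap_cases hz (S.invData.orderOf_of_conj hx) hxa with e | ⟨h, hh, hh2, e⟩ <;> subst e
  · exact Or.inl hx
  · exact Or.inr (hx.trans (S.censwap_mul_conj hz hh hh2).symm)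

omit [Finite G] [Finite Ω] in
theorem bar_z {v : ↥(Cent J)} :
    orderOf (induce Ω J ⟨z, S.censwap_cent hz⟩) = 2 ∧
      induce Ω J ⟨z, S.censwap_cent hz⟩ • S.invData.fa = S.invData.fb := by
  refine ⟨orderOf_two_of ?_ fun e => S.invData.fa_ne_fb ?_, Subtype.ext hz.2.1⟩
  · rw [← map_mul, show (⟨z, S.censwap_cent hz⟩ : ↥(Cent J)) * ⟨z, S.censwap_cent hz⟩ = 1 from
      Subtype.ext (mul_self_of_orderOf hz.1), map_one]
  · have h : induce Ω J ⟨z, S.censwap_cent hz⟩ • S.invData.fa = S.invData.fb := Subtype.ext hz.2.1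
    rwa [e, one_smul] at h

omit [Finite Ω] in
theorem beta_sixteen (h1 : IsConj J z) (h2 : IsConj J (z * J)) : InvData.beta a b J = 16 := by
  classical
  let Γ := {x : G // IsConj J x ∧ x • a = a ∧ x • b = b}
  have hΓ : ∀ x : Γ, x.1 ∈ (pairStab a b : Subgroup G) ∧ orderOf x.1 = 2 := fun x =>
    ⟨mem_pairStab.2 x.2.2, S.invData.orderOf_of_conj x.2.1⟩
  let φ : Option Γ → {x : G // IsConj J x ∧ x • a = b} := fun o => o.elim ⟨z, h1, hz.2.1⟩ fun x =>
    ⟨z * x.1, h2.trans (S.censwap_mul_conj hz (hΓ x).1 (hΓ x).2), by rw [mul_smul, x.2.2.1, hz.2.1]⟩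
  have hne : ∀ x : Γ, z * x.1 ≠ z := fun x e => by
    have h := (hΓ x).2; rw [mul_eq_left.1 e, orderOf_one] at h; norm_num at h
  have hφ : Function.Bijective φ := by
    refine ⟨?_, fun x => ?_⟩
    · rintro (_ | x) (_ | y) h <;> have h' := congrArg Subtype.val h
      · rfl
      · exact absurd h'.symm (hne y)
      · exact absurd h' (hne x)
      · exact congrArg some (Subtype.ext (mul_left_cancel h'))
    · rcases S.swap_cases hz (S.invData.orderOf_of_conj x.2.1) x.2.2 with e | ⟨h, hh, hh2, e⟩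
      · exact ⟨none, Subtype.ext e.symm⟩
      · exact ⟨some ⟨h, S.isConj_inv hh hh2, mem_pairStab.1 hh⟩, Subtype.ext e.symm⟩
  rw [InvData.beta, ← Nat.card_congr (Equiv.ofBijective φ hφ), Finite.card_option,
    show Nat.card Γ = 15 from S.gamma_eq]

omit [Finite Ω] in
theorem beta_fifteen (h1 : ¬ IsConj J z) (h2 : IsConj J (z * J)) : InvData.beta a b J = 15 := by
  classical
  let Γ := {x : G // IsConj J x ∧ x • a = a ∧ x • b = b}
  have hΓ : ∀ x : Γ, x.1 ∈ (pairStab a b : Subgroup G) ∧ orderOf x.1 = 2 := fun x =>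
    ⟨mem_pairStab.2 x.2.2, S.invData.orderOf_of_conj x.2.1⟩
  let φ : Γ → {x : G // IsConj J x ∧ x • a = b} := fun x =>
    ⟨z * x.1, h2.trans (S.censwap_mul_conj hz (hΓ x).1 (hΓ x).2), by rw [mul_smul, x.2.2.1, hz.2.1]⟩
  have hφ : Function.Bijective φ := by
    refine ⟨fun x y h => Subtype.ext (mul_left_cancel (congrArg Subtype.val h)), fun x => ?_⟩
    rcases S.swap_cases hz (S.invData.orderOf_of_conj x.2.1) x.2.2 with e | ⟨h, hh, hh2, e⟩
    · exact absurd (e ▸ x.2.1) h1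
    · exact ⟨⟨h, S.isConj_inv hh hh2, mem_pairStab.1 hh⟩, Subtype.ext e.symm⟩
  rw [InvData.beta, ← Nat.card_congr (Equiv.ofBijective φ hφ)]
  exact S.gamma_eq

/-- A conjugate of the central swap brings the alternating group into the centraliser of `J`. -/
theorem exists_embed (h1 : IsConj J z) :
    ∃ κ : A5 →* ↥(inducedPerm Ω J), Function.Injective κ := by
  obtain ⟨q, hq⟩ := isConj_iff.1 h1
  let κ₀ : A5 →* ↥(Cent J) := ((MulAut.conj q⁻¹).toMonoidHom.comp f).codRestrict (Cent J) fun x => by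
    refine Subgroup.mem_centralizer_singleton_iff.2 ?_
    show q⁻¹ * f x * q⁻¹⁻¹ * J = J * (q⁻¹ * f x * q⁻¹⁻¹)
    rw [show J = q⁻¹ * z * q by rw [← hq]; group]
    calc q⁻¹ * f x * q⁻¹⁻¹ * (q⁻¹ * z * q) = q⁻¹ * (f x * z) * q := by group
      _ = q⁻¹ * (z * f x) * q := by rw [hz.2.2 _ (S.mem x)]
      _ = _ := by group
  have hκ₀ : Function.Injective κ₀ := fun x y h =>
    S.inj ((MulAut.conj q⁻¹).injective (congrArg Subtype.val h))
  refine ⟨(induce Ω J).comp κ₀, (MonoidHom.ker_eq_bot_iff _).1 ?_⟩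
  rcases IsSimpleGroup.eq_bot_or_eq_top_of_normal ((induce Ω J).comp κ₀).ker inferInstance with h | h
  · exact h
  exfalso
  have hle : ∀ x : A5, ((κ₀ x : ↥(Cent J)) : G) ∈ (pairStab a b ⊓ Cent J : Subgroup G) := fun x => by
    have hx : induce Ω J (κ₀ x) = 1 := (h ▸ Subgroup.mem_top x :)
    have h' := (induce_eq_one_iff _).1 hx
    exact ⟨mem_pairStab.2 ⟨h' a S.invData.smul_a, h' b S.invData.smul_b⟩, (κ₀ x).2⟩
  have := Nat.card_le_card_of_injective
    (fun x : A5 => (⟨((κ₀ x : ↥(Cent J)) : G), hle x⟩ : ↥(pairStab a b ⊓ Cent J : Subgroup G)))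
    fun x y h => hκ₀ (Subtype.ext (congrArg Subtype.val h :))
  rw [Alt.card_five, S.card_inf_cent] at this
  norm_num at this

end Setting

/-- Both swaps conjugate in even degree: an elementary abelian subgroup of full two-power order. -/
theorem both_even_sylow {X : Type*} [Group X] [Finite X] {Y : Type*} [MulAction X Y] [Finite Y] [FaithfulSMul X Y]
    {a b : Y} {u : X} (D : InvData X Y a b u) (hstab : ∀ x ∈ (pairStab a b : Subgroup X), x = 1 ∨ x = u) {w : X}
    (hwa : w • a = b) (hw : IsConj u w) (hwu : IsConj u (w * u)) (heven : Even (Nat.card Y)) :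
    ∃ (m : ℕ) (T : Subgroup X), 0 < m ∧ Nat.card Y = 2 ^ m * (2 * 2 ^ m - 1) ∧ Nat.card ↥T = 2 * 2 ^ m ∧
      (∀ x ∈ T, x * x = 1) ∧ ∀ x : X, orderOf x = 2 → IsConj u x := by
  classical
  have hw2 := D.orderOf_of_conj hw
  obtain ⟨hwc, -, -, hcases⟩ := swap_two D hstab hw2 hwa
  have hn := card_of_two D hstab hw hwa hwu
  obtain ⟨m, N', R, hm0, hq, -, hinv⟩ := D.even_induced (D.even_fixCard heven) (D.sharp_of_two hstab)
  rw [hq] at hn
  have hker : ∀ k : ↥(Cent u), induce Y u k = 1 → (k : X) = 1 ∨ (k : X) = u := fun k hk => by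
    have h := (induce_eq_one_iff k).1 hk
    exact hstab _ (mem_pairStab.2 ⟨h _ D.smul_a, h _ D.smul_b⟩)
  have hu2 := mul_self_of_orderOf D.ordJ
  have hu1 : u ≠ 1 := fun e => by simpa [e] using D.ordJ
  have hkc : Nat.card ↥(induce Y u).ker = 2 := by
    rw [Nat.card_eq_two_iff]
    refine ⟨1, ⟨⟨u, Subgroup.mem_centralizer_singleton_iff.2 rfl⟩, (induce_eq_one_iff _).2 fun c hc => hc⟩,
      fun h => hu1 (congrArg (fun x : ↥(induce Y u).ker => (x.1 : X)) h :).symm, ?_⟩
    ext k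
    simp only [Set.mem_insert_iff, Set.mem_singleton_iff, Set.mem_univ, iff_true]
    exact (hker k.1 k.2).imp (fun e => Subtype.ext (Subtype.ext e)) fun e => Subtype.ext (Subtype.ext e)
  have hwC : w ∈ Cent u := Subgroup.mem_centralizer_singleton_iff.2 hwc
  have hwT : w ∈ liftSub u N' := mem_liftSub.2 ⟨hwC, hinv _
    (induce_sq (⟨w, hwC⟩ : ↥(Cent u)) (Subtype.ext (mul_self_of_orderOf hw2)))⟩
  refine ⟨m, liftSub u N', hm0, hn, ?_, fun x hx => ?_, fun x hx => isConj_all D.two D.ne (fun y hy hya => by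
    rcases hcases y hy hya with e | e <;> rw [e]
    exacts [hw, hwu]) hx⟩
  · haveI : Nonempty ↥(fixPts Y u) := ⟨D.fa⟩
    rw [card_liftSub, hkc, R.card, card_fixPts, hq]
  have hxC := liftSub_le_cent _ hx
  rcases D.liftSub_form R hwT hwa hx with h | ⟨g, hg, -, k, hk, hkfix, rfl⟩
  · rcases hker ⟨x, hxC⟩ ((induce_eq_one_iff _).2 h) with e | e
    · change x = 1 at e; rw [e, one_mul]
    · change x = u at e; rw [e, hu2]
  · have hyC : g * w * g⁻¹ ∈ Cent u := mul_mem (mul_mem hg hwC) (inv_mem hg)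
    have hy2 : g * w * g⁻¹ * (g * w * g⁻¹) = 1 := by
      rw [show g * w * g⁻¹ * (g * w * g⁻¹) = g * (w * w) * g⁻¹ by group, mul_self_of_orderOf hw2]; group
    rcases hker ⟨k, hk⟩ ((induce_eq_one_iff _).2 hkfix) with e | e
    · change k = 1 at e; rw [e, mul_one, hy2]
    · change k = u at e
      have hcy : Commute (g * w * g⁻¹) u := Subgroup.mem_centralizer_singleton_iff.1 hyC
      rw [e, hcy.symm.mul_mul_mul_comm, hy2, hu2, one_mul]

/-- The preimage of an elementary abelian subgroup of the induced group is elementary abelian. -/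
theorem lift_sq {a b : Ω} {J : G} {D : InvData G Ω a b J} {v : ↥(Cent J)} (B : BData D v)
    (hbar : ∀ g : ↥(Cent J), IsConj (induce Ω J v) (induce Ω J g) → IsConj J (g : G))
    {T : Subgroup ↥(inducedPerm Ω J)} (hT : ∀ x ∈ T, x * x = 1)
    (hall : ∀ x : ↥(inducedPerm Ω J), orderOf x = 2 → IsConj (induce Ω J v) x) :
    J ∈ liftSub J T ∧ Nat.card ↥(liftSub J T) = 2 * Nat.card ↥T ∧ ∀ x ∈ liftSub J T, x * x = 1 := by
  refine ⟨mem_liftSub.2 ⟨Subgroup.mem_centralizer_singleton_iff.2 rfl, ?_⟩, by rw [card_liftSub, B.card_ker],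
    fun x hx => ?_⟩
  · rw [(induce_eq_one_iff _).2 fun c hc => hc]; exact one_mem _
  obtain ⟨hxC, hxT⟩ := mem_liftSub.1 hx
  by_cases h0 : induce Ω J ⟨x, hxC⟩ = 1
  · rcases B.ker _ h0 with e | e
    · change x = 1 at e; rw [e, one_mul]
    · change x = J at e; rw [e, mul_self_of_orderOf D.ordJ]
  · exact mul_self_of_orderOf (D.orderOf_of_conj (hbar _ (hall _ (orderOf_two_of (hT _ hxT) h0))))

/-- The order of the group when sixteen swaps are conjugate to `J`. -/
theorem order_sixteen {n i : ℕ} (hle : i ≤ n) (h2 : 2 ≤ i) (h : 15 * (n - i) = 16 * (i * (i - 1))) :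
    (15 : ℤ) * ((n * (n - 1) * 60 : ℕ) : ℤ) = 4 * i * (i - 1) * (16 * i - 1) * (16 * i + 15) := by
  have h' : (15 : ℤ) * ((n : ℤ) - i) = 16 * ((i : ℤ) * (i - 1)) := by
    have h1 : ((15 * (n - i) : ℕ) : ℤ) = ((16 * (i * (i - 1)) : ℕ) : ℤ) := by rw [h]
    push_cast [Nat.cast_sub hle, Nat.cast_sub (show 1 ≤ i by omega)] at h1
    exact h1
  push_cast [Nat.cast_sub (show 1 ≤ n by omega)]
  calc (15 : ℤ) * ((n : ℤ) * ((n : ℤ) - 1) * 60)
      = 4 * ((15 * (i : ℤ) + 15 * ((n : ℤ) - i)) * (15 * (i : ℤ) + 15 * ((n : ℤ) - i) - 15)) := by ring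
    _ = _ := by rw [h']; ring

theorem not_dvd_sixteen {i q N : ℕ} (hq : 2 ≤ q) (hi : i = q * (2 * q - 1)) (hev : Even i)
    (hN : (15 : ℤ) * N = 4 * i * (i - 1) * (16 * i - 1) * (16 * i + 15)) : ¬ 2 * (4 * q) ∣ N := by
  rintro ⟨k, rfl⟩
  have hqi : (i : ℤ) = q * (2 * q - 1) := by
    rw [hi, Nat.cast_mul, Nat.cast_sub (by omega)]; push_cast; ring
  push_cast at hN
  have h : (4 * q : ℤ) * ((2 * q - 1) * (i - 1) * (16 * i - 1) * (16 * i + 15)) =
      (4 * q : ℤ) * (2 * (15 * k)) := by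
    calc (4 * q : ℤ) * ((2 * q - 1) * (i - 1) * (16 * i - 1) * (16 * i + 15))
        = 4 * (q * (2 * q - 1)) * (i - 1) * (16 * i - 1) * (16 * i + 15) := by ring
      _ = 4 * i * (i - 1) * (16 * i - 1) * (16 * i + 15) := by rw [← hqi]
      _ = _ := by rw [← hN]; ring
  have h' := mul_left_cancel₀ (show (4 * (q : ℤ)) ≠ 0 by positivity) h
  obtain ⟨r, hr⟩ := hev
  have hi' : (i : ℤ) = 2 * r := by rw [hr]; push_cast; ring
  have h1 : (2 * (15 * k : ℤ)) % 2 = 0 := Int.mul_emod_right _ _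
  rw [← h', hi', Int.mul_emod, Int.mul_emod ((2 * (q : ℤ) - 1) * (2 * r - 1)), Int.mul_emod (2 * (q : ℤ) - 1),
    show (2 * (q : ℤ) - 1) % 2 = 1 by omega, show (2 * (r : ℤ) - 1) % 2 = 1 by omega,
    show (16 * (2 * (r : ℤ)) - 1) % 2 = 1 by omega, show (16 * (2 * (r : ℤ)) + 15) % 2 = 1 by omega] at h1
  norm_num at h1

theorem not_dvd_power {i m N : ℕ} (hm : 0 < m) (hi : i = 2 ^ m * (2 * 2 ^ m - 1))
    (hN : (15 : ℤ) * N = 4 * i * (i - 1) * (16 * i - 1) * (16 * i + 15)) (hd : 4 * 2 ^ m - 1 ∣ N) : False := by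
  have hm2 : 2 ≤ 2 ^ m := by
    calc 2 = 2 ^ 1 := rfl
      _ ≤ 2 ^ m := Nat.pow_le_pow_right (by norm_num) hm
  obtain ⟨q, hq⟩ : ∃ q, q = 2 ^ m := ⟨_, rfl⟩
  rw [← hq] at hi hd hm2
  have hqi : (i : ℤ) = q * (2 * q - 1) := by
    rw [hi, Nat.cast_mul, Nat.cast_sub (by omega)]; push_cast; ring
  obtain ⟨d, hd0⟩ : ∃ d : ℤ, d = 4 * q - 1 := ⟨_, rfl⟩
  have hdG : d ∣ (N : ℤ) := by
    have h : ((4 * q - 1 : ℕ) : ℤ) ∣ (N : ℤ) := by exact_mod_cast hd
    rw [Nat.cast_sub (by omega)] at h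
    push_cast at h
    rwa [← hd0] at h
  have h8 : 8 * (i : ℤ) = d * d - 1 := by rw [hd0, hqi]; ring
  have h351 : d ∣ 4 * 351 := by
    have hE : d ∣ 64 * ((15 : ℤ) * N) := (hdG.mul_left 15).mul_left 64
    rw [hN, show (64 : ℤ) * (4 * i * (i - 1) * (16 * i - 1) * (16 * i + 15)) =
      4 * (8 * i) * (8 * i - 8) * (2 * (8 * i) - 1) * (2 * (8 * i) + 15) by ring, h8] at hE
    have hP : d ∣ 4 * (d * d - 1) * (d * d - 1 - 8) * (2 * (d * d - 1) - 1) * (2 * (d * d - 1) + 15) + 4 * 351 :=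
      ⟨4 * d * (4 * (d * d) * (d * d) * (d * d) - 20 * (d * d) * (d * d) - 203 * (d * d) + 570), by ring⟩
    exact (dvd_add_right hE).1 hP
  have h351' : 4 * q - 1 ∣ 4 * 351 := by
    have h : ((4 * q - 1 : ℕ) : ℤ) ∣ ((4 * 351 : ℕ) : ℤ) := by
      rw [Nat.cast_sub (by omega)]
      push_cast
      rw [← hd0]
      exact h351
    exact_mod_cast h
  have hm9 : m ≤ 9 := by
    by_contra hcon
    have h1024 : 2 ^ 10 ≤ 2 ^ m := Nat.pow_le_pow_right (by norm_num) (by omega)
    have := Nat.le_of_dvd (by norm_num) h351'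
    omega
  interval_cases m <;> subst hq <;> norm_num at h351'

namespace Setting

variable {a b : Ω} {f : A5 →* G} (S : Setting G Ω a b f) {z : G} (hz : CenSwap a b z)

include S hz

local notation "J" => f Alt.t₀

set_option maxHeartbeats 1000000 in
/-- Both swaps of the induced group conjugate, in even degree: the Sylow subgroup is too large. -/
theorem not_both_even {v : ↥(Cent J)} (B : BData S.invData v) (h1 : IsConj J z) (h2 : IsConj J (z * J))
    {w : ↥(inducedPerm Ω J)} (hwa : w • S.invData.fa = S.invData.fb) (hw : IsConj (induce Ω J v) w)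
    (hwu : IsConj (induce Ω J v) (w * induce Ω J v)) (heven : Even (fixCard Ω J)) : False := by
  classical
  haveI := S.faithful
  have := Fintype.ofFinite G
  obtain ⟨m, T, hm0, hf, hTc, hTsq, hallM⟩ := both_even_sylow B.inv B.stab hwa hw hwu
    (by rw [card_fixPts]; exact heven)
  rw [card_fixPts] at hf
  obtain ⟨hJU, hUc, hUsq⟩ := lift_sq B (fun g hg => S.isConj_of_bar B g hg) hTsq hallM
  rw [hTc, show 2 * (2 * 2 ^ m) = 4 * 2 ^ m by ring] at hUc
  generalize liftSub J T = U at hJU hUc hUsq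
  have hallG : ∀ x : G, orderOf x = 2 → IsConj J x := fun x hx => isConj_all S.two S.ne (fun y hy hya => by
    rcases S.swap_cases hz hy hya with e | ⟨h, hh, hh2, e⟩ <;> subst e
    exacts [h1, h2.trans (S.censwap_mul_conj hz hh hh2)]) hx
  -- the order of the group
  have hG15 : (15 : ℤ) * Nat.card G = 4 * fixCard Ω J * (fixCard Ω J - 1) * (16 * fixCard Ω J - 1) *
      (16 * fixCard Ω J + 15) := by
    have hβ := S.invData.formula
    rw [S.gamma_eq, S.beta_sixteen hz h1 h2] at hβ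
    rw [S.card_G]
    exact order_sixteen (fixCard_le J) S.invData.two_le_fixCard hβ
  have hm2 : 2 ≤ 2 ^ m := by
    calc 2 = 2 ^ 1 := rfl
      _ ≤ 2 ^ m := Nat.pow_le_pow_right (by norm_num) hm0
  set q := 2 ^ m with hqdef
  have hb : ¬ 2 * Nat.card ↥U ∣ Nat.card G := by
    rw [hUc]
    exact not_dvd_sixteen hm2 hf heven hG15
  have hUp : IsPGroup 2 ↥U := fun x => ⟨1, Subtype.ext (by simpa [pow_two] using hUsq x.1 x.2)⟩
  obtain ⟨P, hP⟩ := exists_sylow_eq hUp hb
  haveI : Fact (Nat.Prime 2) := ⟨Nat.prime_two⟩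
  haveI : IsMulCommutative ↥(P : Subgroup G) := ⟨⟨fun x y => Subtype.ext
    (comm_of_exp_two hUsq x.1 (hP ▸ x.2) y.1 (hP ▸ y.2))⟩⟩
  set NU := Subgroup.normalizer (U : Set G) with hNU
  have horb := @card_orbit_mul G _ _ NU J (fun x => x ∈ U ∧ x ≠ 1)
    ⟨hJU, fun e => by simpa [e] using S.invData.ordJ⟩
    (fun n hn x hx => ⟨(Subgroup.mem_normalizer_iff.1 hn x).1 hx.1, fun e => hx.2 (conj_eq_one_iff.1 e)⟩)
    (fun x hx => by
      obtain ⟨g, hg⟩ := isConj_iff.1 (hallG x (orderOf_two_of (hUsq x hx.1) hx.2))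
      obtain ⟨n, hn, hn'⟩ := P.conj_eq_normalizer_conj_of_mem J g⁻¹ (show J ∈ (P : Subgroup G) from hP ▸ hJU)
        (show g⁻¹⁻¹ * J * g⁻¹ ∈ (P : Subgroup G) by rw [inv_inv, hg, hP]; exact hx.1)
      refine ⟨n⁻¹, inv_mem ?_, by rw [inv_inv, ← hn', inv_inv, hg]⟩
      have hn2 : n ∈ Subgroup.normalizer ((P : Subgroup G) : Set G) := hn
      rwa [hP] at hn2)
  have hcard : Nat.card {x : G // x ∈ U ∧ x ≠ 1} = 4 * q - 1 := by
    rw [← hUc, Nat.card_congr (Equiv.subtypeSubtypeEquivSubtypeInter (fun x : G => x ∈ U) (fun x => x ≠ 1)).symm,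
      Nat.card_eq_fintype_card, Nat.card_eq_fintype_card,
      Fintype.card_congr (Equiv.subtypeEquivRight fun x : {x : G // x ∈ U} =>
        (show x.1 ≠ 1 ↔ ¬ x = ⟨1, one_mem U⟩ from ⟨fun h e => h (congrArg Subtype.val e), fun h e => h (Subtype.ext e)⟩)),
      Fintype.card_subtype_compl, Fintype.card_subtype_eq]
  have hd : 4 * q - 1 ∣ Nat.card G := by
    rw [← hcard]
    exact (Dvd.intro _ horb.symm).trans (Subgroup.card_subgroup_dvd_card NU)
  exact not_dvd_power hm0 hf hG15 hd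

end Setting

/-- The two swaps of the induced group, with the alternating group embedded in it. -/
theorem bar_both {a b : Ω} {J : G} {D : InvData G Ω a b J} {v : ↥(Cent J)} (B : BData D v) [FaithfulSMul G Ω]
    {w : ↥(inducedPerm Ω J)} (hw2 : orderOf w = 2) (hwa : w • D.fa = D.fb) (κ : A5 →* ↥(inducedPerm Ω J))
    (hκ : Function.Injective κ) :
    IsConj (induce Ω J v) w ∧ IsConj (induce Ω J v) (w * induce Ω J v) ∧ Even (fixCard Ω J) := by
  obtain ⟨hwc, hwu2, hwua, -⟩ := swap_two B.inv B.stab hw2 hwa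
  have hn1 : IsConj (induce Ω J v) w := by
    by_contra h
    exact not_embed_one B.inv B.stab hw2 hwa h κ hκ
  have hn2 : IsConj (induce Ω J v) (w * induce Ω J v) := by
    by_contra h
    exact not_embed_one B.inv B.stab hwu2 hwua h κ hκ
  refine ⟨hn1, hn2, ?_⟩
  by_contra hev
  rw [Nat.not_even_iff_odd, Nat.odd_iff] at hev
  have h := parity_fixCard (Ω := ↥(fixPts Ω J)) (mul_self_of_orderOf B.inv.ordJ)
  rw [card_fixPts, hev] at h
  exact InvData.not_all_conj B.inv B.stab (Nat.odd_iff.2 h.symm) hw2 hn1 hn2 hwc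
    (fun e => by rw [e, B.inv.smul_a] at hwa; exact D.fa_ne_fb hwa)
    (card_of_two B.inv B.stab hn1 hwa hn2)

/-- With `z * J` outside the class of `J` no swap of the induced group is conjugate to the image of `v`. -/
theorem bar_none {a b : Ω} {J : G} {D : InvData G Ω a b J} {v : ↥(Cent J)} (B : BData D v) [FaithfulSMul G Ω]
    (hbar : ∀ g : ↥(Cent J), IsConj (induce Ω J v) (induce Ω J g) → IsConj J (g : G))
    {w : ↥(Cent J)} (hw2 : orderOf (induce Ω J w) = 2) (hwa : induce Ω J w • D.fa = D.fb)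
    (hj : ¬ IsConj J ((w : G) * J)) (hv : ¬ IsConj J ((w : G) * v)) : False := by
  have hJC : J ∈ Cent J := Subgroup.mem_centralizer_singleton_iff.2 rfl
  have hn1 : ¬ IsConj (induce Ω J v) (induce Ω J w) := fun h => by
    refine hj (hbar (w * ⟨J, hJC⟩) ?_)
    rwa [induce_mul_fix w ⟨J, hJC⟩ fun c hc => hc]
  refine hv (hbar (w * v) ?_)
  rw [induce_mul']
  exact (unique_conj_swap B.inv B.stab hw2 hwa hn1).1

namespace Setting

variable {a b : Ω} {f : A5 →* G} (S : Setting G Ω a b f) {z : G} (hz : CenSwap a b z)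

include S hz

local notation "J" => f Alt.t₀

/-- The central swap is not conjugate to `J`. -/
theorem not_conj_z : ¬ IsConj J z := by
  intro h1
  haveI := S.faithful
  obtain ⟨κ, hκ⟩ := S.exists_embed hz h1
  by_cases hA : CaseA Ω J (f Alt.v₀)
  · exact not_embed_sharp S.invData.two_induced S.invData.fa_ne_fb (S.sharp_of_caseA hA) κ hκ
  have B := S.bData hA
  obtain ⟨hw2, hwa⟩ := S.bar_z hz (v := ⟨z, S.censwap_cent hz⟩)
  by_cases h2 : IsConj J (z * J)
  · obtain ⟨hn1, hn2, hev⟩ := bar_both B hw2 hwa κ hκ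
    exact S.not_both_even hz B h1 h2 hwa hn1 hn2 hev
  · exact bar_none B (fun g hg => S.isConj_of_bar B g hg) hw2 hwa h2
      fun h => h2 (h.trans (S.censwap_mul_conj hz B.memH B.ord).symm)

/-- In odd degree the central swap is isolated. -/
theorem isolated (hodd : Odd (Nat.card Ω)) : Cfsg.IsIsolatedInvolution z := by
  haveI := S.faithful
  have h1 := S.not_conj_z hz
  have h2 := (S.isConj_swap hz).resolve_left h1
  have D := S.invData
  obtain ⟨c, hc⟩ : ∃ c : Ω, z • c = c := by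
    have h := parity_fixCard (Ω := Ω) (mul_self_of_orderOf hz.1)
    rw [Nat.odd_iff.1 hodd] at h
    have : Nonempty {c : Ω // z • c = c} := (Nat.card_pos_iff.1 (by unfold fixCard at h; omega)).1
    exact ⟨this.some.1, this.some.2⟩
  have h1' : Nat.card {x : G // orderOf x = 2 ∧ ¬ IsConj J x ∧ x • c = c} = 1 := by
    rw [D.nonconj_count hodd c, Nat.card_eq_one_iff_unique]
    refine ⟨⟨fun x y => Subtype.ext ?_⟩, ⟨⟨z, hz.1, h1, hz.2.1⟩⟩⟩
    rw [S.swap_eq_of_not_conj hz h2 x.2.1 x.2.2.2 x.2.2.1, S.swap_eq_of_not_conj hz h2 y.2.1 y.2.2.2 y.2.2.1]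
  refine ⟨hz.1, fun g hcm => ?_⟩
  haveI := (Nat.card_eq_one_iff_unique.1 h1').1
  exact congrArg Subtype.val (Subsingleton.elim
    (⟨g * z * g⁻¹, (orderOf_conj_eq g z).trans hz.1, fun e => h1 (e.trans (isConj_iff.2 ⟨g, rfl⟩).symm),
      D.unique_fix hz.1 h1 (by rw [← mul_smul, hcm.eq, mul_smul, hc]) hc⟩ :
        {x : G // orderOf x = 2 ∧ ¬ IsConj J x ∧ x • c = c})
    ⟨z, hz.1, h1, hc⟩)

theorem false_odd (hnr : NoRegular G Ω) (hodd : Odd (Nat.card Ω)) : False := by
  classical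
  haveI := S.faithful
  haveI := Fintype.ofFinite Ω
  have hiso := S.isolated hz hodd
  set W := Cfsg.oddCore G with hW
  haveI hWn : W.Normal := by rw [hW]; unfold Cfsg.oddCore; infer_instance
  have hWodd : Odd (Nat.card W) := ZStar.odd_card_oddCore G
  haveI : IsPretransitive G Ω := isPretransitive_of_is_two_pretransitive (h2 := S.two)
  have hWne : W ≠ ⊥ := by
    intro h
    have htop := CfsgLib.Classical.SwapPair.sup_oddCore_eq_top_of_isolated hiso
    rw [← hW, h, sup_bot_eq] at htop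
    obtain ⟨c, hc⟩ : ∃ c : Ω, z • c = c := by
      have h := parity_fixCard (Ω := Ω) (mul_self_of_orderOf hz.1)
      rw [Nat.odd_iff.1 hodd] at h
      have : Nonempty {c : Ω // z • c = c} := (Nat.card_pos_iff.1 (by unfold fixCard at h; omega)).1
      exact ⟨this.some.1, this.some.2⟩
    have hall : ∀ d : Ω, z • d = d := fun d => by
      obtain ⟨g, rfl⟩ := exists_smul_eq G c d
      have hg : g ∈ Subgroup.centralizer ({z} : Set G) := htop ▸ Subgroup.mem_top g
      rw [← mul_smul, ← Subgroup.mem_centralizer_singleton_iff.1 hg, mul_smul, hc]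
    have hz1 := hz.1
    rw [show z = 1 from eq_of_smul_eq_smul fun d : Ω => by rw [hall, one_smul], orderOf_one] at hz1
    norm_num at hz1
  haveI := isPretransitive_of_normal_ne_bot S.two W hWne
  have hWH : ∀ x : A5, f x ∈ W → x = 1 := by
    intro x hx
    haveI : (W.comap f).Normal := hWn.comap f
    rcases IsSimpleGroup.eq_bot_or_eq_top_of_normal (W.comap f) inferInstance with h | h
    · exact Subgroup.mem_bot.1 (h ▸ Subgroup.mem_comap.2 hx)
    · exfalso
      have hm : f Alt.t₀ ∈ W := Subgroup.mem_comap.1 (h ▸ Subgroup.mem_top Alt.t₀)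
      have h2 := Subgroup.orderOf_dvd_natCard W hm
      rw [S.invData.ordJ] at h2
      exact (Nat.not_even_iff_odd.2 hWodd) (even_iff_two_dvd.2 h2)
  exact not_normal_sharp S hnr (W := W) hWH

theorem false_even (hnr : NoRegular G Ω) (heven : Even (Nat.card Ω)) : False := by
  classical
  haveI := S.faithful
  have D := S.invData
  have h1 := S.not_conj_z hz
  have h2 := (S.isConj_swap hz).resolve_left h1
  obtain ⟨k, hk⟩ : ∃ k, fixCard Ω J = 2 ^ k := by
    by_cases hA : CaseA Ω J (f Alt.v₀)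
    · obtain ⟨k, N, -, -, hk, -⟩ := D.even_induced (D.even_fixCard heven) (S.sharp_of_caseA hA)
      exact ⟨k, hk⟩
    · have B := S.bData hA
      obtain ⟨hw2, hwa⟩ := S.bar_z hz (v := ⟨z, S.censwap_cent hz⟩)
      obtain ⟨m, N, -, -, -, hm, -⟩ := kernel_even B.inv B.stab
        (by rw [card_fixPts]; exact D.even_fixCard heven) hw2 hwa (fun h => h1 (S.isConj_of_bar B _ h))
      exact ⟨m + m, by rw [← card_fixPts, hm, pow_add]⟩
  have hf := D.formula
  rw [S.gamma_eq, S.beta_fifteen hz h1 h2] at hf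
  have h2f := D.two_le_fixCard
  have hle := fixCard_le (Ω := Ω) J
  have hn : Nat.card Ω = fixCard Ω J * fixCard Ω J := by
    obtain ⟨i₀, hi₀⟩ : ∃ i₀, fixCard Ω J = i₀ + 1 := ⟨fixCard Ω J - 1, by omega⟩
    rw [hi₀, Nat.add_sub_cancel] at hf
    rw [hi₀] at hle ⊢
    have : (i₀ + 1) * (i₀ + 1) = (i₀ + 1) + (i₀ + 1) * i₀ := by ring
    omega
  haveI : Nontrivial Ω := ⟨⟨a, b, S.ne⟩⟩
  obtain ⟨N, R, -⟩ := exists_translations (m := k + k) S.two
    (P := fun x => orderOf x = 2 ∧ ¬ IsConj J x)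
    (fun g x hx => ⟨(orderOf_conj_eq g x).trans hx.1,
      fun h => hx.2 (h.trans (isConj_iff.2 ⟨g⁻¹, by group⟩))⟩)
    (fun x hx => hx.1) (fun x hx c hc => hx.2 (D.isConj_of_fix heven hx.1 hc))
    (fun c d hcd => by
      obtain ⟨g, hg1, hg2⟩ := exists_smul_pair S.two S.ne hcd
      change g • a = c at hg1
      change g • b = d at hg2
      refine ⟨g * z * g⁻¹, ⟨(orderOf_conj_eq g z).trans hz.1,
        fun h => h1 (h.trans (isConj_iff.2 ⟨g⁻¹, by group⟩))⟩, ?_⟩
      rw [← hg1, ← hg2, (smul_eq_iff_conj g z a b).2 hz.2.1])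
    (fun x y hx hy c hxy => by
      have hne : x • c ≠ c := fun e => hx.2 (D.isConj_of_fix heven hx.1 e)
      obtain ⟨g, hga, hgc⟩ := exists_conj_base S.two S.ne hne
      have hgy : (g⁻¹ * y * g) • a = b := by
        rw [← hga, mul_smul, mul_smul, mul_smul, mul_smul, hgc, hxy]
      have key : ∀ w : G, orderOf w = 2 ∧ ¬ IsConj J w → (g⁻¹ * w * g) • a = b → g⁻¹ * w * g = z :=
        fun w hw hwa => S.swap_eq_of_not_conj hz h2 (by simpa using (orderOf_conj_eq g⁻¹ w).trans hw.1) hwa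
          fun e => hw.2 (e.trans (isConj_iff.2 ⟨g, by group⟩))
      exact mul_left_cancel (mul_right_cancel ((key x hx hga).trans (key y hy hgy).symm)))
    (by rw [hn, hk, pow_add]) inferInstance
  exact hnr.not_regular R.normal R.trans R.free

theorem false_of_censwap (hnr : NoRegular G Ω) : False :=
  (Nat.even_or_odd (Nat.card Ω)).elim (S.false_even hz hnr) (S.false_odd hz hnr)

end Setting

end CfsgLib.KimuraFive
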