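import Cfsg.Agent.Lib.Perm.KimuraFive.TwoStab

/-!
# The alternating group of degree five does not embed in small doubly transitive groups
-/

set_option autoImplicit false

namespace CfsgLib.KimuraFive

open MulAction CfsgLib.KimuraFour

variable {X : Type*} [Group X]

local notation "A5" => alternatingGroup (Fin 5)

theorem eq_one_of_sq_odd {p : ℕ} (hp : Odd p) {e : X} (h2 : e * e = 1) (he : e ^ p = 1) : e = 1 := by
  obtain ⟨r, rfl⟩ := hp
  rwa [pow_succ, pow_mul, pow_two, h2, one_pow, one_mul] at he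

theorem orderOf_map (κ : A5 →* X) (hκ : Function.Injective κ) {x : A5} (h : x * x = 1 ∧ x ≠ 1) :
    orderOf (κ x) = 2 :=
  orderOf_two_of (by rw [← map_mul, h.1, map_one]) fun e => h.2 (hκ (e.trans κ.map_one.symm))

/-- An involution with no nontrivial fixed point inverts an abelian group of odd exponent. -/
theorem inverts_of_free [Finite X] {x : X} (hx : x * x = 1) (N : Subgroup X)
    (hc : ∀ e ∈ N, ∀ e' ∈ N, e * e' = e' * e) (hn : ∀ e ∈ N, x * e * x⁻¹ ∈ N)
    (hfix : ∀ e ∈ N, x * e = e * x → e = 1) : ∀ e ∈ N, x * e * x⁻¹ = e⁻¹ := by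
  intro e he
  let φ : N → N := fun y => ⟨(y : X)⁻¹ * (x * y * x⁻¹), mul_mem (inv_mem y.2) (hn y y.2)⟩
  have hφ : Function.Bijective φ := Finite.injective_iff_bijective.1 fun y y' h => by
    have h1 : (y : X)⁻¹ * (x * y * x⁻¹) = (y' : X)⁻¹ * (x * y' * x⁻¹) := congrArg Subtype.val h
    have hd : (y' : X) * (y : X)⁻¹ ∈ N := mul_mem y'.2 (inv_mem y.2)
    have h3 := hfix _ hd (mul_inv_eq_iff_eq_mul.1 ?_)
    · exact (Subtype.ext (mul_inv_eq_one.1 h3)).symm
    calc x * ((y' : X) * (y : X)⁻¹) * x⁻¹ = (x * y' * x⁻¹) * (x * y * x⁻¹)⁻¹ := by group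
      _ = ((y' : X) * ((y' : X)⁻¹ * (x * y' * x⁻¹))) * (x * y * x⁻¹)⁻¹ := by group
      _ = (y' : X) * (y : X)⁻¹ := by rw [← h1]; group
  obtain ⟨y, hy⟩ := hφ.2 ⟨e, he⟩
  have hey : (y : X)⁻¹ * (x * y * x⁻¹) = e := congrArg Subtype.val hy
  have hxi : x⁻¹ = x := inv_eq_of_mul_eq_one_right hx
  calc x * e * x⁻¹ = x * (y : X)⁻¹ * x * y * (x * x)⁻¹ := by rw [← hey, hxi, _root_.mul_inv_rev, hxi]; group
    _ = (x * (y : X)⁻¹ * x⁻¹) * y := by rw [hx, hxi]; group
    _ = ((y : X)⁻¹ * (x * y * x⁻¹))⁻¹ := by group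
    _ = e⁻¹ := by rw [hey]

/-- The involutions of an embedded alternating group do not lie in an abelian subgroup. -/
theorem not_all_mem (κ : A5 →* X) (hκ : Function.Injective κ) (N : Subgroup X)
    (hc : ∀ e ∈ N, ∀ e' ∈ N, e * e' = e' * e) (hmem : ∀ x : A5, x * x = 1 ∧ x ≠ 1 → κ x ∈ N) : False := by
  obtain ⟨x, y, h1, h2, h3, h4, h5⟩ := Alt.not_all_commute
  exact h5 (hκ (by rw [map_mul, map_mul]; exact hc _ (hmem x ⟨h1, h2⟩) _ (hmem y ⟨h3, h4⟩)))

variable {Y : Type*} [MulAction X Y]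

/-- An involution with one fixed point inverts a regular normal subgroup of odd exponent. -/
theorem inverts_kernel [Finite X] [Finite Y] {p : ℕ} {N : Subgroup X} (R : RegularKernel Y p N) {x : X}
    (hx : x * x = 1) (h1 : fixCard Y x = 1) : ∀ e ∈ N, x * e * x⁻¹ = e⁻¹ := by
  obtain ⟨hsub, ⟨c⟩⟩ := Nat.card_eq_one_iff_unique.1 h1
  refine inverts_of_free hx N R.comm (fun e he => R.normal.conj_mem e he x) fun e he h => R.free e he c.1 ?_
  exact congrArg Subtype.val (@Subsingleton.elim _ hsub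
    (⟨e • c.1, by rw [← mul_smul, h, mul_smul, c.2]⟩ : {d : Y // x • d = d}) c)

theorem kernel_ne_bot {p : ℕ} {N : Subgroup X} (R : RegularKernel Y p N) {c d : Y} (hcd : c ≠ d) :
    ∃ e ∈ N, e ≠ 1 := by
  obtain ⟨e, he, hec⟩ := R.trans c d
  exact ⟨e, he, fun h => hcd (by rw [← hec, h, one_smul])⟩

/-- The involutions of an embedded alternating group do not all fix a single point. -/
theorem not_all_single [Finite X] [Finite Y] (κ : A5 →* X) {p : ℕ} {N : Subgroup X}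
    (R : RegularKernel Y p N) (hp : Odd p) {c d : Y} (hcd : c ≠ d)
    (hone : ∀ x : A5, x * x = 1 ∧ x ≠ 1 → fixCard Y (κ x) = 1) : False := by
  obtain ⟨e, he, he1⟩ := kernel_ne_bot R hcd
  have hs : ∀ x : A5, x * x = 1 → κ x * κ x = 1 := fun x h => by rw [← map_mul, h, map_one]
  have hi : ∀ x : A5, x * x = 1 ∧ x ≠ 1 → ∀ e ∈ N, κ x * e * (κ x)⁻¹ = e⁻¹ := fun x h =>
    inverts_kernel R (hs x h.1) (hone x h)
  have h1 := hi Alt.t₀ Alt.t₀_sq
  have h2 := hi Alt.v₀ Alt.v₀_sq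
  have h3 := hi (Alt.v₀ * Alt.t₀) Alt.v₀_facts.2.2
  have h4 : κ (Alt.v₀ * Alt.t₀) * e * (κ (Alt.v₀ * Alt.t₀))⁻¹ = e := by
    rw [map_mul, show κ Alt.v₀ * κ Alt.t₀ * e * (κ Alt.v₀ * κ Alt.t₀)⁻¹ =
      κ Alt.v₀ * (κ Alt.t₀ * e * (κ Alt.t₀)⁻¹) * (κ Alt.v₀)⁻¹ by group, h1 e he, h2 _ (inv_mem he), inv_inv]
  rw [h3 e he] at h4
  exact he1 (eq_one_of_sq_odd hp (by nth_rw 1 [← h4]; exact inv_mul_cancel e) (R.pow e he))

/-- The alternating group of degree five does not embed in a sharply doubly transitive group. -/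
theorem not_embed_sharp [Finite X] [Finite Y] [FaithfulSMul X Y] (h2 : IsMultiplyPretransitive X Y 2)
    {a b : Y} (hab : a ≠ b) (hsharp : ∀ (x : X) (c d : Y), c ≠ d → x • c = c → x • d = d → x = 1)
    (κ : A5 →* X) (hκ : Function.Injective κ) : False := by
  have hn : 2 ≤ Nat.card Y := by
    haveI : Nontrivial Y := ⟨⟨a, b, hab⟩⟩
    exact Finite.one_lt_card
  obtain ⟨p, N, R, hmem⟩ := exists_kernel_sharp h2 hn hsharp
  have hle : ∀ x : X, x ≠ 1 → fixCard Y x ≤ 1 := fun x hx =>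
    Finite.card_le_one_iff_subsingleton.2
      ⟨fun c d => Subtype.ext (by_contra fun h => hx (hsharp x c.1 d.1 h c.2 d.2))⟩
  have hsq : ∀ x : A5, x * x = 1 ∧ x ≠ 1 → κ x * κ x = 1 ∧ κ x ≠ 1 := fun x h =>
    ⟨by rw [← map_mul, h.1, map_one], fun e => h.2 (hκ (e.trans κ.map_one.symm))⟩
  rcases Nat.even_or_odd (Nat.card Y) with hev | hodd
  · refine not_all_mem κ hκ N R.comm fun x hx => (hmem _).2 (Or.inr fun c hc => ?_)
    have hp := parity_fixCard (Ω := Y) (hsq x hx).1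
    rw [Nat.even_iff.1 hev] at hp
    have hpos : 0 < fixCard Y (κ x) := Nat.card_pos_iff.2 ⟨⟨⟨c, hc⟩⟩, inferInstance⟩
    have := hle _ (hsq x hx).2
    omega
  · haveI : Nonempty Y := ⟨a⟩
    obtain ⟨k, hk⟩ := R.card_pow
    have hk0 : k ≠ 0 := fun h => by rw [hk, h, pow_zero] at hn; omega
    have hpodd : Odd p := by rw [hk] at hodd; exact (Nat.odd_pow_iff hk0).1 hodd
    refine not_all_single κ R hpodd hab fun x hx => ?_
    have hp := parity_fixCard (Ω := Y) (hsq x hx).1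
    rw [Nat.odd_iff.1 hodd] at hp
    have := hle _ (hsq x hx).2
    omega

/-- The alternating group of degree five does not embed when one class of swapping involutions is regular. -/
theorem not_embed_one [Finite X] [Finite Y] [FaithfulSMul X Y] {a b : Y} {u : X} (D : InvData X Y a b u)
    (hstab : ∀ x ∈ (pairStab a b : Subgroup X), x = 1 ∨ x = u) {w : X} (hw : orderOf w = 2) (hwa : w • a = b)
    (hwn : ¬ IsConj u w) (κ : A5 →* X) (hκ : Function.Injective κ) : False := by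
  classical
  haveI : Nonempty Y := ⟨a⟩
  have hn := card_of_one D hstab hw hwa hwn
  rcases Nat.even_or_odd (Nat.card Y) with hev | hodd
  · obtain ⟨m, N, R, -, -, -, -⟩ := kernel_even D hstab hev hw hwa hwn
    haveI := R.normal
    have hker : ∀ x : A5, κ x ∈ N → x = 1 := by
      rcases IsSimpleGroup.eq_bot_or_eq_top_of_normal (N.comap κ) inferInstance with h | h
      · exact fun x hx => Subgroup.mem_bot.1 (h ▸ Subgroup.mem_comap.2 hx)
      · exact (not_all_mem κ hκ N R.comm fun x _ => Subgroup.mem_comap.1 (h ▸ Subgroup.mem_top x)).elim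
    have hinj : Function.Injective ((QuotientGroup.mk' N).comp κ) :=
      (injective_iff_map_eq_one _).2 fun x hx => hker x ((QuotientGroup.eq_one_iff _).1 hx)
    have h60 := Subgroup.card_dvd_of_injective _ hinj
    rw [Alt.card_five] at h60
    have hq := Subgroup.card_eq_card_quotient_mul_card_subgroup N
    rw [card_eq_pairStab D.two D.ne, D.card_stab_two hstab, R.card,
      show Nat.card Y * (Nat.card Y - 1) * 2 = (2 * (Nat.card Y - 1)) * Nat.card Y by ring] at hq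
    rw [← Nat.eq_of_mul_eq_mul_right Nat.card_pos hq] at h60
    have hcard : 2 ≤ Nat.card Y := by
      haveI : Nontrivial Y := ⟨⟨a, b, D.ne⟩⟩
      exact Finite.one_lt_card
    rw [even_iff_two_dvd] at hev
    have h4 : 4 ∣ 2 * (Nat.card Y - 1) := (show 4 ∣ 60 by norm_num).trans h60
    omega
  · obtain ⟨p, N, R⟩ := kernel_odd D hstab hodd hw hwa hwn
    obtain ⟨k, hk⟩ := R.card_pow
    have hcard : 2 ≤ Nat.card Y := by
      haveI : Nontrivial Y := ⟨⟨a, b, D.ne⟩⟩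
      exact Finite.one_lt_card
    have hk0 : k ≠ 0 := fun h => by rw [hk, h, pow_zero] at hcard; omega
    have hpodd : Odd p := by
      have h := hodd
      rw [hk] at h
      exact (Nat.odd_pow_iff hk0).1 h
    have hpar : ∀ x : A5, x * x = 1 → fixCard Y (κ x) % 2 = 1 := fun x hx => by
      rw [← parity_fixCard (Ω := Y) (show κ x * κ x = 1 by rw [← map_mul, hx, map_one]), Nat.odd_iff.1 hodd]
    have hone : ∀ x : A5, x * x = 1 ∧ x ≠ 1 → ¬ IsConj u (κ x) → fixCard Y (κ x) = 1 := fun x hx hn' => by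
      have h1 : fixCard Y (κ x) ≤ 1 := Finite.card_le_one_iff_subsingleton.2
        ⟨fun c d => Subtype.ext (D.unique_fix (orderOf_map κ hκ hx) hn' c.2 d.2)⟩
      have h2 := hpar x hx.1
      omega
    have hconj : ∀ x : A5, x * x = 1 ∧ x ≠ 1 → IsConj (κ Alt.t₀) (κ x) := fun x hx => by
      obtain ⟨h, rfl⟩ := Alt.inv_conj x hx.1 hx.2
      exact isConj_iff.2 ⟨κ h, by rw [map_mul, map_mul, map_inv]⟩
    by_cases hu : IsConj u (κ Alt.t₀)
    swap
    · exact not_all_single κ R hpodd D.ne fun x hx => hone x hx fun h => hu (h.trans (hconj x hx).symm)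
    set x₁ := κ Alt.t₀ with hx₁
    set x₂ := κ Alt.v₀ with hx₂
    have hc12 : x₂ * x₁ = x₁ * x₂ := by rw [hx₁, hx₂, ← map_mul, ← map_mul, Alt.v₀_facts.1]
    have hs1 : x₁ * x₁ = 1 := by rw [hx₁, ← map_mul, Alt.t₀_sq.1, map_one]
    have hs2 : x₂ * x₂ = 1 := by rw [hx₂, ← map_mul, Alt.v₀_sq.1, map_one]
    have hu2 : IsConj u x₂ := hu.trans (hconj _ Alt.v₀_sq)
    have hu3 : IsConj u (x₁ * x₂) := by
      rw [← hc12, hx₁, hx₂, ← map_mul]; exact hu.trans (hconj _ Alt.v₀_facts.2.2)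
    -- a common fixed point
    obtain ⟨c, hc1, hc2⟩ : ∃ c : Y, x₁ • c = c ∧ x₂ • c = c := by
      by_contra hcon
      push Not at hcon
      have h1 : fixCard Y x₁ % 2 = 1 := hpar _ Alt.t₀_sq.1
      let σ : Equiv.Perm {c : Y // x₁ • c = c} := (MulAction.toPerm (α := X) (β := Y) x₂).subtypePerm fun c => by
        show x₁ • x₂ • c = x₂ • c ↔ x₁ • c = c
        rw [← mul_smul, ← hc12, mul_smul]; exact (MulAction.injective x₂).eq_iff
      have := Fintype.ofFinite Y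
      haveI : Fact (Nat.Prime 2) := ⟨Nat.prime_two⟩
      have h := Equiv.Perm.card_compl_support_modEq (p := 2) (n := 1) (σ := σ) (by
        ext d
        show x₂ • x₂ • d.1 = d.1
        exact smul_of_mul_self hs2 d.1)
      rw [show σ.supportᶜ = ∅ by
        ext d
        simp only [Finset.mem_compl, Equiv.Perm.mem_support, not_not, Finset.notMem_empty, iff_false]
        exact fun e => hcon d.1 d.2 (congrArg Subtype.val e), Finset.card_empty, Nat.ModEq,
        ← Nat.card_eq_fintype_card] at h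
      unfold fixCard at h1
      omega
    -- elements commuting with two of the involutions are trivial
    have htwo : ∀ y z : X, IsConj u y → IsConj u z → y ≠ z → y • c = c → z • c = c → ∀ e ∈ N,
        y * e = e * y → z * e = e * z → e = 1 := by
      intro y z hy hz hyz hyc hzc e he hye hze
      by_contra he1
      have hd : c ≠ e • c := fun h => he1 (R.free e he c h.symm)
      obtain ⟨g, hg1, hg2⟩ := exists_smul_pair D.two D.ne hd
      change g • a = c at hg1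
      change g • b = e • c at hg2
      have key : ∀ y : X, IsConj u y → y • c = c → y * e = e * y → g⁻¹ * y * g = u := by
        intro y hy hyc hye
        have hm : g⁻¹ * y * g ∈ (pairStab a b : Subgroup X) := by
          rw [← conj_mem_pairStab_iff g, show g * (g⁻¹ * y * g) * g⁻¹ = y by group, hg1, hg2]
          exact mem_pairStab.2 ⟨hyc, by rw [← mul_smul, hye, mul_smul, hyc]⟩
        refine (hstab _ hm).resolve_left fun h => ?_
        have := (orderOf_conj_eq g⁻¹ y).trans (D.orderOf_of_conj hy)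
        rw [inv_inv, h, orderOf_one] at this
        norm_num at this
      exact hyz (mul_left_cancel (mul_right_cancel ((key y hy hyc hye).trans (key z hz hzc hze).symm)))
    have hc3 : (x₁ * x₂) • c = c := by rw [mul_smul, hc2, hc1]
    have hne12 : x₁ ≠ x₂ := fun h => Alt.v₀_facts.2.1 (hκ h.symm)
    have hne13 : x₁ ≠ x₁ * x₂ := fun h => Alt.v₀_sq.2 (hκ ((mul_eq_left.1 h.symm).trans κ.map_one.symm))
    have hne23 : x₂ ≠ x₁ * x₂ := fun h => Alt.t₀_sq.2 (hκ ((mul_eq_right.1 h.symm).trans κ.map_one.symm))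
    -- an involution inverts what another one centralises
    have hinv : ∀ y z : X, y * y = 1 → IsConj u y → IsConj u z → y ≠ z → y • c = c → z • c = c →
        y * z = z * y → ∀ e ∈ N, z * e = e * z → y * e * y⁻¹ = e⁻¹ := by
      intro y z hy2 hy hz hyz hyc hzc hcm e he hze
      refine inverts_of_free hy2 (N ⊓ Subgroup.centralizer ({z} : Set X))
        (fun e he e' he' => R.comm e he.1 e' he'.1) (fun e' he' => ⟨R.normal.conj_mem e' he'.1 y,
          Subgroup.mul_mem _ (Subgroup.mul_mem _ (Subgroup.mem_centralizer_singleton_iff.2 hcm) he'.2)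
            (Subgroup.inv_mem _ (Subgroup.mem_centralizer_singleton_iff.2 hcm))⟩)
        (fun e' he' h => htwo y z hy hz hyz hyc hzc e' he'.1 h
          (Subgroup.mem_centralizer_singleton_iff.1 he'.2).symm)
        e ⟨he, Subgroup.mem_centralizer_singleton_iff.2 hze.symm⟩
    let C : X → Type _ := fun y => {e : X // e ∈ N ∧ y * e = e * y}
    have hC : ∀ y : X, IsConj u y → y • c = c → Nat.card (C y) = fixCard Y u := by
      intro y hy hyc
      rw [← D.fixCard_of_conj hy]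
      refine Nat.card_congr (Equiv.ofBijective (fun e : C y =>
        (⟨e.1 • c, by rw [← mul_smul, e.2.2, mul_smul, hyc]⟩ : {d : Y // y • d = d})) ⟨fun e e' h => ?_, fun d => ?_⟩)
      · have h' : e.1 • c = e'.1 • c := congrArg Subtype.val h
        refine Subtype.ext (inv_mul_eq_one.1 (R.free _ (mul_mem (inv_mem e.2.1) e'.2.1) c ?_))
        rw [mul_smul, ← h', inv_smul_smul]
      · obtain ⟨e, he, hec⟩ := R.trans c d.1
        have h1 : e⁻¹ * (y * e * y⁻¹) = 1 := by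
          refine R.free _ (mul_mem (inv_mem he) (R.normal.conj_mem e he y)) c ?_
          rw [mul_smul, mul_smul, mul_smul, show y⁻¹ • c = c by rw [inv_smul_eq_iff, hyc], hec, d.2,
            inv_smul_eq_iff, hec]
        exact ⟨⟨e, he, mul_inv_eq_iff_eq_mul.1 (inv_mul_eq_one.1 h1).symm⟩, Subtype.ext hec⟩
    let Φ : C x₁ × C x₂ × C (x₁ * x₂) → N := fun t =>
      ⟨t.1.1 * t.2.1.1 * t.2.2.1, mul_mem (mul_mem t.1.2.1 t.2.1.2.1) t.2.2.2.1⟩
    have hΦ : Function.Injective Φ := by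
      rintro ⟨⟨e₁, h1, h1'⟩, ⟨e₂, h2, h2'⟩, ⟨e₃, h3, h3'⟩⟩ ⟨⟨d₁, k1, k1'⟩, ⟨d₂, k2, k2'⟩, ⟨d₃, k3, k3'⟩⟩ h
      have h' : e₁ * e₂ * e₃ = d₁ * d₂ * d₃ := congrArg Subtype.val h
      set q₁ := d₁⁻¹ * e₁ with hq1
      set q₂ := d₂⁻¹ * e₂ with hq2
      set q₃ := d₃⁻¹ * e₃ with hq3
      have m1 : q₁ ∈ N := mul_mem (inv_mem k1) h1
      have m2 : q₂ ∈ N := mul_mem (inv_mem k2) h2
      have m3 : q₃ ∈ N := mul_mem (inv_mem k3) h3
      have c1 : x₁ * q₁ = q₁ * x₁ := ((show Commute x₁ d₁ from k1').inv_right.mul_right h1').eq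
      have c2 : x₂ * q₂ = q₂ * x₂ := ((show Commute x₂ d₂ from k2').inv_right.mul_right h2').eq
      have c3 : x₁ * x₂ * q₃ = q₃ * (x₁ * x₂) := ((show Commute (x₁ * x₂) d₃ from k3').inv_right.mul_right h3').eq
      have hprod : q₁ * q₂ * q₃ = 1 := by
        calc q₁ * q₂ * q₃ = d₁⁻¹ * (e₁ * d₂⁻¹) * e₂ * (d₃⁻¹ * e₃) := by rw [hq1, hq2, hq3]; group
          _ = d₁⁻¹ * d₂⁻¹ * (e₁ * e₂ * d₃⁻¹) * e₃ := by rw [R.comm e₁ h1 d₂⁻¹ (inv_mem k2)]; group
          _ = (d₁⁻¹ * d₂⁻¹) * d₃⁻¹ * (e₁ * e₂ * e₃) := by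
            rw [R.comm (e₁ * e₂) (mul_mem h1 h2) d₃⁻¹ (inv_mem k3)]; group
          _ = (d₃ * (d₂ * d₁))⁻¹ * (d₁ * d₂ * d₃) := by rw [h']; group
          _ = 1 := by rw [R.comm d₂ k2 d₁ k1, R.comm d₃ k3 _ (mul_mem k1 k2), inv_mul_cancel]
      have i1 : x₁ * q₂ * x₁⁻¹ = q₂⁻¹ := hinv x₁ x₂ hs1 hu hu2 hne12 hc1 hc2 hc12.symm q₂ m2 c2
      have i2 : x₁ * q₃ * x₁⁻¹ = q₃⁻¹ := hinv x₁ (x₁ * x₂) hs1 hu hu3 hne13 hc1 hc3
        (by rw [← mul_assoc, mul_assoc, mul_assoc x₁ x₂, hc12]) q₃ m3 c3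
      have e1 : q₁ * (q₂⁻¹ * q₃⁻¹) = 1 := by
        calc q₁ * (q₂⁻¹ * q₃⁻¹) = (x₁ * q₁ * x₁⁻¹) * ((x₁ * q₂ * x₁⁻¹) * (x₁ * q₃ * x₁⁻¹)) := by
              rw [i1, i2, mul_inv_eq_iff_eq_mul.2 c1]
          _ = x₁ * (q₁ * q₂ * q₃) * x₁⁻¹ := by group
          _ = 1 := by rw [hprod]; group
      have hq1' : q₁ = 1 := eq_one_of_sq_odd hpodd (by
        have e2 : q₁ = q₃ * q₂ := by
          rw [eq_inv_of_mul_eq_one_left e1]; group
        have e3 : q₁ = q₃⁻¹ * q₂⁻¹ := by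
          rw [mul_assoc] at hprod
          rw [eq_inv_of_mul_eq_one_left hprod, _root_.mul_inv_rev]
        calc q₁ * q₁ = (q₃ * q₂) * (q₃⁻¹ * q₂⁻¹) := by nth_rw 1 [e2]; rw [e3]
          _ = 1 := by rw [R.comm q₃ m3 q₂ m2]; group) (R.pow _ m1)
      have hq2' : q₂ = 1 := by
        rw [hq1', one_mul] at hprod
        have i3 : x₂ * q₃ * x₂⁻¹ = q₃⁻¹ := hinv x₂ (x₁ * x₂) hs2 hu2 hu3 hne23 hc2 hc3
          (by rw [← mul_assoc, hc12, mul_assoc]) q₃ m3 c3
        refine eq_one_of_sq_odd hpodd ?_ (R.pow _ m2)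
        have e4 : q₂ * q₃⁻¹ = 1 := by
          calc q₂ * q₃⁻¹ = (x₂ * q₂ * x₂⁻¹) * (x₂ * q₃ * x₂⁻¹) := by rw [i3, mul_inv_eq_iff_eq_mul.2 c2]
            _ = x₂ * (q₂ * q₃) * x₂⁻¹ := by group
            _ = 1 := by rw [hprod]; group
        rw [← mul_inv_eq_one.1 e4] at hprod
        exact hprod
      have hq3' : q₃ = 1 := by rwa [hq1', hq2', one_mul, one_mul] at hprod
      refine Prod.ext (Subtype.ext ?_) (Prod.ext (Subtype.ext ?_) (Subtype.ext ?_))
      · exact (inv_mul_eq_one.1 hq1').symm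
      · exact (inv_mul_eq_one.1 hq2').symm
      · exact (inv_mul_eq_one.1 hq3').symm
    have hle := Nat.card_le_card_of_injective Φ hΦ
    rw [Nat.card_prod, Nat.card_prod, hC x₁ hu hc1, hC x₂ hu2 hc2, hC _ hu3 hc3, R.card, hn] at hle
    have hj := D.two_le_fixCard
    have : 0 < fixCard Y u * fixCard Y u := by positivity
    nlinarith

end CfsgLib.KimuraFive
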