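import Cfsg.Agent.Lib.Perm.KimuraFive.SymSetting
import Cfsg.Agent.Lib.Perm.KimuraFour.SylowTools

/-!
# The four-group moving fixed points of its involution: degree twelve
-/

set_option autoImplicit false

namespace CfsgLib.KimuraFive

open MulAction CfsgLib.KimuraFour

variable {G : Type*} [Group G] [Finite G] {Ω : Type*} [MulAction G Ω] [Finite Ω]

local notation "A5" => alternatingGroup (Fin 5)
local notation "S5" => Equiv.Perm (Fin 5)
local notation "Cent" J:max => Subgroup.centralizer (Singleton.singleton J : Set _)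

/-- An elementary abelian group of translations all of whose lifts square to `J` has order at most four. -/
theorem small_translations {a b : Ω} {J : G} (D : InvData G Ω a b J) {N : Subgroup ↥(inducedPerm Ω J)}
    (hc : ∀ x ∈ N, ∀ y ∈ N, x * y = y * x) (hp : ∀ x ∈ N, x * x = 1)
    (hsq : ∀ g : ↥(Cent J), induce Ω J g ∈ N → induce Ω J g ≠ 1 → (g : G) * g = J) : Nat.card ↥N ≤ 4 := by
  classical
  have hJ2 := mul_self_of_orderOf D.ordJ
  have hJi := inv_of_orderOf D.ordJ
  have hanti : ∀ q r : ↥(Cent J), induce Ω J q ∈ N → induce Ω J r ∈ N → induce Ω J q ≠ 1 → induce Ω J r ≠ 1 →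
      induce Ω J q ≠ induce Ω J r → (r : G) * q = q * r * J := by
    intro q r hq hr hq1 hr1 hne
    have hqr : induce Ω J (q * r) ≠ 1 := by
      rw [induce_mul']
      intro e
      refine hne (mul_right_cancel (b := induce Ω J r) ?_)
      rw [e, hp _ hr]
    have h1 : (q : G) * r * (q * r) = J := hsq _ (by rw [induce_mul']; exact mul_mem hq hr) hqr
    have h2 := hsq q hq hq1
    have h3 := hsq r hr hr1
    calc (r : G) * q = (q : G)⁻¹ * ((q : G) * r * (q * r)) * (r : G)⁻¹ := by group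
      _ = (q : G)⁻¹ * (q * q) * (r : G)⁻¹ := by rw [h1, h2]
      _ = q * r * ((r : G) * r)⁻¹ := by group
      _ = q * r * J := by rw [h3, hJi]
  by_contra hcard
  push Not at hcard
  have := Fintype.ofFinite ↥N
  rw [Nat.card_eq_fintype_card] at hcard
  have pick : ∀ T : Finset ↥N, T.card ≤ 4 → ∃ x : ↥N, x ∉ T := fun T hT => by
    by_contra hcon
    push Not at hcon
    have : (Finset.univ : Finset ↥N).card ≤ T.card := Finset.card_le_card fun x _ => hcon x
    rw [Finset.card_univ] at this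
    omega
  obtain ⟨q, hq⟩ := pick {1} (by simp)
  obtain ⟨r, hr⟩ := pick {1, q} (Finset.card_le_two.trans (by norm_num))
  obtain ⟨w, hw⟩ := pick {1, q, r, q * r} Finset.card_le_four
  simp only [Finset.mem_insert, Finset.mem_singleton, not_or] at hq hr hw
  obtain ⟨q', hq'⟩ := induce_surjective J q.1
  obtain ⟨r', hr'⟩ := induce_surjective J r.1
  obtain ⟨w', hw'⟩ := induce_surjective J w.1
  have hr2 : r * r = 1 := Subtype.ext (hp _ r.2)
  have ne : ∀ x y : ↥N, x ≠ y → (x : ↥(inducedPerm Ω J)) ≠ y := fun x y h e => h (Subtype.ext e)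
  have a1 := hanti q' r' (hq' ▸ q.2) (hr' ▸ r.2) (by rw [hq']; exact ne _ 1 hq) (by rw [hr']; exact ne _ 1 hr.1)
    (by rw [hq', hr']; exact ne _ _ (Ne.symm hr.2))
  have a2 := hanti q' w' (hq' ▸ q.2) (hw' ▸ w.2) (by rw [hq']; exact ne _ 1 hq) (by rw [hw']; exact ne _ 1 hw.1)
    (by rw [hq', hw']; exact ne _ _ (Ne.symm hw.2.1))
  have hrw1 : r * w ≠ 1 := fun e => hw.2.2.1 (mul_left_cancel (a := r) (by rw [e, hr2]))
  have hrwq : q ≠ r * w := fun e => hw.2.2.2 (by
    refine mul_left_cancel (a := r) ?_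
    rw [← e, show r * (q * r) = r * q * r from (mul_assoc _ _ _).symm,
      show r * q = q * r from Subtype.ext (hc _ r.2 _ q.2), mul_assoc, hr2, mul_one])
  have a3 := hanti q' (r' * w') (hq' ▸ q.2) (by rw [induce_mul', hr', hw']; exact mul_mem r.2 w.2)
    (by rw [hq']; exact ne _ 1 hq) (by rw [induce_mul', hr', hw']; exact ne (r * w) 1 hrw1)
    (by rw [hq', induce_mul', hr', hw']; exact ne q (r * w) hrwq)
  rw [Subgroup.coe_mul] at a3
  have hJc : J * (w' : G) = w' * J := (Subgroup.mem_centralizer_singleton_iff.1 w'.2).symm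
  have a4 : (r' : G) * w' * q' = q' * (r' * w') := by
    calc (r' : G) * w' * q' = r' * (w' * q') := mul_assoc _ _ _
      _ = (r' * q') * (w' * J) := by rw [a2]; group
      _ = q' * r' * (J * w') * J := by rw [a1]; group
      _ = q' * (r' * w') * (J * J) := by rw [hJc]; group
      _ = _ := by rw [hJ2, mul_one]
  rw [a4] at a3
  have : J = 1 := mul_left_cancel (a := (q' : G) * (r' * w')) (by rw [mul_one]; exact a3.symm)
  simpa [this] using D.ordJ

/-- A swap in the centraliser of `J` conjugating `v` to `v * J`: the lifts of its product with `v`. -/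
theorem bar_lift {a b : Ω} {J : G} {D : InvData G Ω a b J} {v : ↥(Cent J)} (B : BData D v)
    (hbar : ∀ g : ↥(Cent J), IsConj (induce Ω J v) (induce Ω J g) → IsConj J (g : G))
    (w : ↥(Cent J)) (hw2 : (w : G) * w = 1) (hwa : (w : G) • a = b) (h1 : (w : G) * v * (w * v) = J)
    (h2 : (w : G) * v * J * (w * v * J) = J) :
    ∃ x : ↥(inducedPerm Ω J), orderOf x = 2 ∧ x • D.fa = D.fb ∧
      ¬ IsConj (induce Ω J v) x ∧ ∀ g : ↥(Cent J), induce Ω J g = x → (g : G) * g = J := by
  have hw : induce Ω J w • D.fa = D.fb := Subtype.ext hwa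
  have ho : orderOf (induce Ω J w) = 2 := by
    refine orderOf_two_of (induce_sq w (Subtype.ext hw2)) fun e => D.fa_ne_fb ?_
    rwa [e, one_smul] at hw
  obtain ⟨-, hwu2, hwua, -⟩ := swap_two B.inv B.stab ho hw
  have hlift : ∀ g : ↥(Cent J), induce Ω J g = induce Ω J w * induce Ω J v → (g : G) * g = J := by
    intro g hg
    rw [← induce_mul'] at hg
    rcases B.eq_or_of_induce hg with e | e <;> rw [e]
    exacts [h1, h2]
  refine ⟨_, hwu2, hwua, fun h => ?_, hlift⟩
  rw [← induce_mul'] at h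
  have h1 := mul_self_of_orderOf (D.orderOf_of_conj (hbar _ h))
  rw [hlift _ (induce_mul' _ _)] at h1
  have := D.ordJ
  rw [h1, orderOf_one] at this
  norm_num at this

/-- An odd number of fixed points in case B is impossible. -/
theorem false_of_odd {a b : Ω} {J : G} {D : InvData G Ω a b J} {v : ↥(Cent J)} (B : BData D v) [FaithfulSMul G Ω]
    (hs : SqStab a b J) (hcap : Nat.card ↥(pairStab a b ⊓ Cent J : Subgroup G) ≤ 4)
    (hcent : Nat.card ↥(Cent J) = 4 * (fixCard Ω J * (fixCard Ω J - 1)))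
    (hG : 9 * Nat.card G = 60 * (fixCard Ω J * (fixCard Ω J - 1)) * ((2 * fixCard Ω J + 1) * (2 * fixCard Ω J + 3)))
    (hcv : IsConj J (v : G)) (hcvJ : IsConj J ((v : G) * J))
    (hswap : ∃ s ∈ Cent J, s * (v : G) * s⁻¹ = v * J) {x : ↥(inducedPerm Ω J)} (hx2 : orderOf x = 2)
    (hxa : x • D.fa = D.fb) (hxn : ¬ IsConj (induce Ω J v) x) (hodd : Odd (fixCard Ω J)) : False := by
  classical
  have hoddY : Odd (Nat.card ↥(fixPts Ω J)) := by rw [card_fixPts]; exact hodd
  obtain ⟨p, N, R⟩ := kernel_odd B.inv B.stab hoddY hx2 hxa hxn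
  haveI : Nonempty ↥(fixPts Ω J) := ⟨D.fa⟩
  obtain ⟨k, hk⟩ := R.card_pow
  rw [card_fixPts] at hk
  have hjj := card_of_one B.inv B.stab hx2 hxa hxn
  rw [card_fixPts] at hjj
  have h2f := D.two_le_fixCard
  have hk0 : k ≠ 0 := fun h => by rw [hk, h, pow_zero] at h2f; omega
  have hpp := R.prime
  haveI := Fact.mk hpp
  have hp : Odd p := by
    have h := hodd
    rw [hk] at h
    exact (Nat.odd_pow_iff hk0).1 h
  have hp2 : p ≠ 2 := fun h => by rw [h] at hp; exact absurd hp (by decide)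
  have hpi : p ∣ fixCard Ω J := by rw [hk]; exact dvd_pow_self p hk0
  have hp1 : ¬ p ∣ fixCard Ω J - 1 := fun h => by
    have := Nat.dvd_sub hpi h
    rw [show fixCard Ω J - (fixCard Ω J - 1) = 1 by omega] at this
    exact hpp.one_lt.ne' (Nat.dvd_one.1 this)
  have hNsat : ∀ g : ↥(inducedPerm Ω J), g ^ p = 1 → (∀ c : ↥(fixPts Ω J), g • c ≠ c) → g ∈ N := by
    intro g hg _
    haveI := R.normal
    refine mem_of_normal_pgroup N (fun y => ⟨1, Subtype.ext (by rw [pow_one]; exact R.pow y.1 y.2)⟩) ?_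
      ⟨1, by rwa [pow_one]⟩
    rw [R.card, card_eq_pairStab B.inv.two B.inv.ne, B.inv.card_stab_two B.stab, card_fixPts,
      show fixCard Ω J * (fixCard Ω J - 1) * 2 = ((fixCard Ω J - 1) * 2) * fixCard Ω J by ring]
    intro h
    rcases (hpp.dvd_mul).1 (Nat.dvd_of_mul_dvd_mul_right (show 0 < fixCard Ω J by omega) h) with h1 | h1
    · exact hp1 h1
    · exact hp2 ((Nat.prime_dvd_prime_iff_eq hpp Nat.prime_two).1 h1)
  obtain ⟨E, hE⟩ := D.exists_eData hs hcap R hp hNsat
  have hcE : Nat.card ↥E = fixCard Ω J := hE.card_eq D.smul_a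
  have hp9 : p = 3 → 9 ∣ fixCard Ω J := by
    rintro rfl
    have h3 : 3 ∣ fixCard ↥(fixPts Ω J) (induce Ω J v) := by
      rw [hjj] at hpi
      exact ((Nat.prime_three.dvd_mul).1 hpi).elim id id
    rw [hjj]
    exact mul_dvd_mul h3 h3
  have h21 : ¬ p ∣ 2 * fixCard Ω J + 1 := fun h =>
    hpp.one_lt.ne' (Nat.dvd_one.1 ((Nat.dvd_add_right (hpi.mul_left 2)).1 h))
  have h23 : p ≠ 3 → ¬ p ∣ 2 * fixCard Ω J + 3 := fun h3 h =>
    h3 ((Nat.prime_dvd_prime_iff_eq hpp Nat.prime_three).1 ((Nat.dvd_add_right (hpi.mul_left 2)).1 h))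
  -- the power of `p` in the order
  have key : ∀ m, m * fixCard Ω J ∣ Nat.card G →
      9 * m ∣ 60 * (fixCard Ω J - 1) * (2 * fixCard Ω J + 1) * (2 * fixCard Ω J + 3) := by
    intro m h
    have h' := mul_dvd_mul_left 9 h
    rw [hG, show 60 * (fixCard Ω J * (fixCard Ω J - 1)) * ((2 * fixCard Ω J + 1) * (2 * fixCard Ω J + 3)) =
      60 * (fixCard Ω J - 1) * (2 * fixCard Ω J + 1) * (2 * fixCard Ω J + 3) * fixCard Ω J by ring, ← mul_assoc] at h'
    exact Nat.dvd_of_mul_dvd_mul_right (by omega) h'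
  have hb5 : p ≠ 5 → ¬ p * Nat.card ↥E ∣ Nat.card G := by
    intro hp5 h
    rw [hcE] at h
    have h' := key p h
    by_cases hp3 : p = 3
    · subst hp3
      obtain ⟨c, hc⟩ := hp9 rfl
      have hc27 : Nat.Coprime 27 (20 * (fixCard Ω J - 1) * (2 * fixCard Ω J + 1) * (6 * c + 1)) :=
        Nat.Coprime.pow_left 3 ((Nat.prime_three.coprime_iff_not_dvd).2 fun h => by
          rcases (Nat.prime_three.dvd_mul).1 h with h | h
          · rcases (Nat.prime_three.dvd_mul).1 h with h | h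
            · exact hp1 (((Nat.prime_three.dvd_mul).1 h).resolve_left (by norm_num))
            · exact h21 h
          · omega)
      rw [show 60 * (fixCard Ω J - 1) * (2 * fixCard Ω J + 1) * (2 * fixCard Ω J + 3) =
        9 * (20 * (fixCard Ω J - 1) * (2 * fixCard Ω J + 1) * (6 * c + 1)) by rw [hc]; ring] at h'
      have := Nat.dvd_of_mul_dvd_mul_left (show 0 < 9 by norm_num) h'
      exact (Nat.prime_three.coprime_iff_not_dvd).1 (Nat.Coprime.coprime_dvd_left (by norm_num) hc27) this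
    · have h'' := (dvd_mul_left p 9).trans h'
      rcases (hpp.dvd_mul).1 h'' with h | h
      · rcases (hpp.dvd_mul).1 h with h | h
        · rcases (hpp.dvd_mul).1 h with h | h
          · have h60 : p ∣ 2 ^ 2 * 3 * 5 := by norm_num; exact h
            rcases (hpp.dvd_mul).1 h60 with h | h
            · rcases (hpp.dvd_mul).1 h with h | h
              · exact hp2 ((Nat.prime_dvd_prime_iff_eq hpp Nat.prime_two).1 (hpp.dvd_of_dvd_pow h))
              · exact hp3 ((Nat.prime_dvd_prime_iff_eq hpp Nat.prime_three).1 h)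
            · exact hp5 ((Nat.prime_dvd_prime_iff_eq hpp (by norm_num)).1 h)
          · exact hp1 h
        · exact h21 h
      · exact h23 hp3 h
  have hb25 : p = 5 → ¬ p * p * Nat.card ↥E ∣ Nat.card G := by
    intro hp5 h
    rw [hcE] at h
    have h' := (dvd_mul_left (p * p) 9).trans (key _ h)
    subst hp5
    rw [show 60 * (fixCard Ω J - 1) * (2 * fixCard Ω J + 1) * (2 * fixCard Ω J + 3) =
      5 * (12 * ((fixCard Ω J - 1) * ((2 * fixCard Ω J + 1) * (2 * fixCard Ω J + 3)))) by ring] at h'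
    rcases (hpp.dvd_mul).1 (Nat.dvd_of_mul_dvd_mul_left (show 0 < 5 by norm_num) h') with h | h
    · norm_num at h
    rcases (hpp.dvd_mul).1 h with h | h
    · exact hp1 h
    rcases (hpp.dvd_mul).1 h with h | h
    · exact h21 h
    · exact h23 (by norm_num) h
  -- the normaliser of `E`
  obtain ⟨e, he, hea⟩ := hE.trans a b D.smul_a D.smul_b
  have he1 : e ≠ 1 := fun h => D.ne (by rw [← hea, h, one_smul])
  have hev : e * (v : G) = v * e := (hE.commute_of_map v.2 he D.smul_a (mem_pairStab.1 B.memH).1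
    (by rw [hea]; exact (mem_pairStab.1 B.memH).2)).symm
  have heJ : e * J = J * e := Subgroup.mem_centralizer_singleton_iff.1 (hE.le_cent he)
  have hall : ∀ y ∈ Subgroup.centralizer (E : Set G), y * y = 1 → y = 1 ∨ y = J := by
    refine involution_centralizing D (fun y hyc hfix => ?_) hE B.ord B.ne B.comm_J (hE.norm v.2) ?_ ?_
    · exact B.ker ⟨y, Subgroup.mem_centralizer_singleton_iff.2 hyc⟩ ((induce_eq_one_iff _).2 hfix)
    · intro w hw y hyE hyw _ r hr hr2 hrp hm
      haveI := Fact.mk hr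
      have hye : y * e = e * y := (Subgroup.mem_centralizer_iff.1 hyE e he).symm
      rcases hw with rfl | rfl
      · exact D.eq_one_of_commute hs hp hk hcv hyw hev hye hr2 hrp hm (hE.pow e he) he1
      · exact D.eq_one_of_commute hs hp hk hcvJ hyw
          (by rw [← mul_assoc, hev, mul_assoc, heJ, mul_assoc]) hye hr2 hrp hm (hE.pow e he) he1
    · by_cases hp5 : p = 5
      · exact Or.inr ⟨hb25 hp5, hswap⟩
      · exact Or.inl (hb5 hp5)
  have hJ2 := mul_self_of_orderOf D.ordJ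
  have hN : Subgroup.normalizer (E : Set G) ≤ Cent J := by
    intro g hg
    have hm : g * J * g⁻¹ ∈ Subgroup.centralizer (E : Set G) :=
      hE.centralizer_conj hg (Subgroup.mem_centralizer_iff.2 fun e he =>
        Subgroup.mem_centralizer_singleton_iff.1 (hE.le_cent he))
    rcases hall _ hm (by rw [show g * J * g⁻¹ * (g * J * g⁻¹) = g * (J * J) * g⁻¹ by group, hJ2]; group) with h | h
    · exact absurd (conj_eq_one_iff.1 h) (fun h => by simpa [h] using D.ordJ)
    · exact Subgroup.mem_centralizer_singleton_iff.2 (mul_inv_eq_iff_eq_mul.1 h)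
  by_cases hp5 : p = 5
  · subst hp5
    have hd : 5 ^ (k + 1) ∣ Nat.card G := by
      refine (Nat.Coprime.dvd_mul_left (show Nat.Coprime (5 ^ (k + 1)) 9 from Nat.Coprime.pow_left _ (by norm_num))).1 ?_
      rw [hG, pow_succ', ← hk, show 60 * (fixCard Ω J * (fixCard Ω J - 1)) = 5 * fixCard Ω J * (12 * (fixCard Ω J - 1))
        by ring, mul_assoc (5 * fixCard Ω J)]
      exact dvd_mul_right _ _
    have h2 := (Sylow.prime_pow_dvd_card_normalizer hd (by rw [hcE, hk])).trans (Subgroup.card_dvd_of_le hN)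
    rw [hcent, pow_succ', ← hk,
      show 4 * (fixCard Ω J * (fixCard Ω J - 1)) = (4 * (fixCard Ω J - 1)) * fixCard Ω J by ring] at h2
    exact hp1 (((hpp.dvd_mul).1 (Nat.dvd_of_mul_dvd_mul_right (show 0 < fixCard Ω J by omega) h2)).resolve_left
      (by norm_num))
  have hidx := index_modEq_one hE.isPGroup (hb5 hp5) hN
  have h1 := (Cent J).card_mul_index
  rw [hcent] at h1
  have h3I : 3 * (Cent J).index = 5 * ((2 * fixCard Ω J + 1) * (2 * fixCard Ω J + 3)) := by
    refine Nat.eq_of_mul_eq_mul_left (show 0 < 12 * (fixCard Ω J * (fixCard Ω J - 1)) by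
      have : 0 < fixCard Ω J * (fixCard Ω J - 1) := Nat.mul_pos (by omega) (by omega)
      omega) ?_
    calc 12 * (fixCard Ω J * (fixCard Ω J - 1)) * (3 * (Cent J).index)
        = 9 * (4 * (fixCard Ω J * (fixCard Ω J - 1)) * (Cent J).index) := by ring
      _ = _ := by rw [h1, hG]; ring
  by_cases hp3 : p = 3
  · subst hp3
    obtain ⟨c, hc⟩ := hp9 rfl
    have h4 : (Cent J).index = 5 * ((18 * c + 1) * (6 * c + 1)) := by
      refine Nat.eq_of_mul_eq_mul_left (show 0 < 3 by norm_num) ?_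
      rw [h3I, hc]; ring
    rw [h4, Nat.ModEq, show 5 * ((18 * c + 1) * (6 * c + 1)) = 3 * (180 * c * c + 40 * c + 1) + 2 by ring] at hidx
    omega
  · have h4 : 3 * (Cent J).index = fixCard Ω J * (20 * fixCard Ω J + 40) + 15 := by rw [h3I]; ring
    have h5 : 3 * (Cent J).index ≡ 3 [MOD p] := by simpa using hidx.mul_left 3
    have h6 : 3 * (Cent J).index ≡ 15 [MOD p] := by
      rw [h4]
      have := (Nat.modEq_zero_iff_dvd.2 (hpi.mul_right (20 * fixCard Ω J + 40))).add_right 15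
      rwa [zero_add] at this
    have h12 : p ∣ 2 ^ 2 * 3 := (Nat.modEq_iff_dvd' (show 3 ≤ 15 by norm_num)).1 (h5.symm.trans h6)
    rcases (hpp.dvd_mul).1 h12 with h | h
    · exact hp2 ((Nat.prime_dvd_prime_iff_eq hpp Nat.prime_two).1 (hpp.dvd_of_dvd_pow h))
    · exact hp3 ((Nat.prime_dvd_prime_iff_eq hpp Nat.prime_three).1 h)

/-- An even number of fixed points in case B is four. -/
theorem four_of_even {a b : Ω} {J : G} {D : InvData G Ω a b J} {v : ↥(Cent J)} (B : BData D v) [FaithfulSMul G Ω]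
    {x : ↥(inducedPerm Ω J)} (hx2 : orderOf x = 2) (hxa : x • D.fa = D.fb) (hxn : ¬ IsConj (induce Ω J v) x)
    (hlift : ∀ g : ↥(Cent J), induce Ω J g = x → (g : G) * g = J) (hev : Even (fixCard Ω J)) :
    fixCard Ω J = 4 := by
  classical
  obtain ⟨m, N, R, hm, -, hcard, hN⟩ := kernel_even B.inv B.stab (by rw [card_fixPts]; exact hev) hx2 hxa hxn
  obtain ⟨-, -, hother⟩ := unique_conj_swap B.inv B.stab hx2 hxa hxn
  haveI := R.normal
  have hsq : ∀ g : ↥(Cent J), induce Ω J g ∈ N → induce Ω J g ≠ 1 → (g : G) * g = J := by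
    intro g hg hg1
    obtain ⟨ho, hnc⟩ := hN _ hg hg1
    have hne : D.fa ≠ induce Ω J g • D.fa := fun e => hg1 (R.free _ hg _ e.symm)
    obtain ⟨y, hy1, hy2⟩ := exists_smul_pair B.inv.two hne B.inv.ne
    change y • D.fa = D.fa at hy1
    change y • induce Ω J g • D.fa = D.fb at hy2
    obtain ⟨y', rfl⟩ := induce_surjective J y
    have he : induce Ω J (y' * g * y'⁻¹) = x := by
      rw [induce_mul', induce_mul', map_inv (induce Ω J)]
      refine hother _ ((orderOf_conj_eq _ _).trans ho)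
        (fun e => hnc (e.trans (isConj_iff.2 ⟨(induce Ω J y')⁻¹, by group⟩))) ?_
      rw [mul_smul, mul_smul, show (induce Ω J y')⁻¹ • D.fa = D.fa by rw [inv_smul_eq_iff, hy1], hy2]
    have h := hlift _ he
    calc (g : G) * g = (y' : G)⁻¹ * (((y' * g * y'⁻¹ : ↥(Cent J)) : G) * ((y' * g * y'⁻¹ : ↥(Cent J)) : G)) * y' := by
          show _ = (y' : G)⁻¹ * ((y' : G) * g * (y' : G)⁻¹ * ((y' : G) * g * (y' : G)⁻¹)) * y'
          group
      _ = J := by rw [h, mul_assoc, ← Subgroup.mem_centralizer_singleton_iff.1 y'.2, inv_mul_cancel_left]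
  have h4 := small_translations D R.comm (fun y hy => by rw [← pow_two]; exact R.pow y hy) hsq
  haveI : Nonempty ↥(fixPts Ω J) := ⟨D.fa⟩
  rw [R.card, hcard] at h4
  rw [card_fixPts] at hcard
  have hm1 : m = 1 := by
    by_contra h
    have : 2 ^ 2 ≤ 2 ^ m := Nat.pow_le_pow_right (by norm_num) (by omega)
    have := Nat.mul_le_mul this this
    omega
  rw [hcard, hm1]
  norm_num

namespace Sym5

variable {a b : Ω} {f : A5 →* G} {ψ : S5 →* G} (Y : Sym5 a b f ψ) (S : Setting G Ω a b f)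

local notation "J" => f Alt.t₀

include Y S

omit [Finite G] [Finite Ω] S in
theorem s_mem_cent : ψ Alt.s₀ ∈ Cent J := by
  rw [Subgroup.mem_centralizer_singleton_iff, ← Y.ext, ← map_mul, ← map_mul, Alt.s₀_facts.2.2.1]

omit [Finite G] [Finite Ω] S in
theorem s_facts : ψ Alt.s₀ * ψ Alt.s₀ = 1 ∧ ψ Alt.s₀ • a = b ∧
    ψ Alt.s₀ * f Alt.v₀ * (ψ Alt.s₀ * f Alt.v₀) = J ∧
    ψ Alt.s₀ * f Alt.v₀ * J * (ψ Alt.s₀ * f Alt.v₀ * J) = J ∧
    ψ Alt.s₀ * f Alt.v₀ * (ψ Alt.s₀)⁻¹ = f Alt.v₀ * J := by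
  obtain ⟨hs2, hssign, -, hsvs, hsv, hsvt⟩ := Alt.s₀_facts
  refine ⟨by rw [← map_mul, hs2, map_one], Y.swap _ hssign, ?_, ?_, ?_⟩ <;>
    simp only [← Y.ext, ← map_inv, ← map_mul, hsv, hsvt, hsvs]

theorem order_nine :
    9 * Nat.card G = 60 * (fixCard Ω J * (fixCard Ω J - 1)) * ((2 * fixCard Ω J + 1) * (2 * fixCard Ω J + 3)) := by
  haveI := S.faithful
  have hn := Y.degree S
  have h2 := S.invData.two_le_fixCard
  rw [S.card_G]
  obtain ⟨i, hi⟩ : ∃ i, fixCard Ω J = i + 1 := ⟨fixCard Ω J - 1, by omega⟩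
  rw [hi] at hn ⊢
  obtain ⟨n, hn'⟩ : ∃ n, Nat.card Ω = n + 1 := ⟨Nat.card Ω - 1, by
    rcases Nat.eq_zero_or_pos (Nat.card Ω) with h | h
    · exfalso; rw [h] at hn; simp at hn
    · omega⟩
  rw [hn'] at hn ⊢
  rw [Nat.add_sub_cancel, Nat.add_sub_cancel]
  have hn3 : 3 * n = i * (2 * i + 5) := by ring_nf at hn ⊢; omega
  calc 9 * ((n + 1) * n * 60) = 60 * ((3 * (n + 1)) * (3 * n)) := by ring
    _ = _ := by rw [hn, hn3]; ring

/-- In case B the degree is twelve. -/
theorem twelve (hB : ¬ CaseA Ω J (f Alt.v₀)) : Nat.card Ω = 12 := by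
  haveI := S.faithful
  have B := S.bData hB
  obtain ⟨h0, h1, h2, h3, h4⟩ := Y.s_facts
  obtain ⟨x, hx2, hxa, hxn, hlift⟩ := bar_lift B (fun g hg => S.isConj_of_bar B g hg)
    ⟨ψ Alt.s₀, Y.s_mem_cent⟩ h0 h1 h2 h3
  rcases Nat.even_or_odd (fixCard Ω J) with hev | hodd
  · have hn := Y.degree S
    rw [four_of_even B hx2 hxa hxn hlift hev] at hn
    omega
  · exact (false_of_odd B S.sqStab S.card_inf_cent.le S.card_cent (Y.order_nine S) (S.isConj_inv B.memH B.ord)
      (S.isConj_inv B.vJ_mem B.vJ_ord) ⟨ψ Alt.s₀, Y.s_mem_cent, h4⟩ hx2 hxa hxn hodd).elim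

end Sym5

end CfsgLib.KimuraFive
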