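import Cfsg.Agent.Lib.Perm.KimuraFive.SymSeven
import Cfsg.Agent.Lib.Perm.KimuraFive.SymTwelve
import Cfsg.Agent.Lib.Blocks.Order7920.Coords
import Cfsg.Agent.Lib.Sporadic.SporMathieu

/-!
# Two-point stabiliser isomorphic to the alternating group of degree five
-/

set_option autoImplicit false

namespace CfsgLib.KimuraFive

open MulAction CfsgLib.KimuraFour

variable {G : Type*} [Group G] [Finite G] {Ω : Type*} [MulAction G Ω] [Finite Ω]

local notation "A5" => alternatingGroup (Fin 5)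

namespace Setting

variable {a b : Ω} {f : A5 →* G} (S : Setting G Ω a b f)

include S

/-- In degree twelve the group is simple. -/
theorem simple_twelve (hnr : NoRegular G Ω) (h12 : Nat.card Ω = 12)
    {c : Ω} (hJc : f Alt.t₀ • c = c) (hvc : f Alt.v₀ • c ≠ c) : IsSimpleGroup G := by
  classical
  haveI := S.faithful
  haveI : IsPretransitive G Ω := isPretransitive_of_is_two_pretransitive (h2 := S.two)
  have hG : Nat.card G = 7920 := by rw [S.card_G, h12]
  haveI : Nontrivial G := Finite.one_lt_card_iff_nontrivial.1 (by omega)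
  refine IsSimpleGroup.mk fun N hN => or_iff_not_imp_left.2 fun hne => ?_
  haveI := hN
  haveI := isPretransitive_of_normal_ne_bot S.two N hne
  have hall : ∀ x : A5, f x ∈ N := by
    rcases IsSimpleGroup.eq_bot_or_eq_top_of_normal (N.comap f) inferInstance with h | h
    · exact (not_normal_sharp S hnr (W := N) fun x hx => Subgroup.mem_bot.1 (h ▸ Subgroup.mem_comap.2 hx)).elim
    · exact fun x => Subgroup.mem_comap.1 (h ▸ Subgroup.mem_top x)
  have hH : (pairStab a b : Subgroup G) ≤ N := fun g hg => by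
    obtain ⟨x, rfl⟩ := S.exists_preimage hg
    exact hall x
  have hac : a ≠ c := fun e => hvc (by rw [← e]; exact (mem_pairStab.1 (S.mem Alt.v₀)).1)
  obtain ⟨g, hg1, hg2⟩ := exists_smul_pair S.two S.ne hac
  change g • a = a at hg1
  change g • b = c at hg2
  set Na := N ⊓ stabilizer G a with hNa
  have hHa : (pairStab a b : Subgroup G) ≤ Na := fun x hx => ⟨hH hx, (mem_pairStab.1 hx).1⟩
  obtain ⟨x, hxNa, hxH⟩ : ∃ x ∈ Na, x ∉ (pairStab a b : Subgroup G) := by
    by_contra hcon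
    push Not at hcon
    let φ : ↥(pairStab a b : Subgroup G) → ↥(pairStab a b : Subgroup G) := fun h => ⟨g * h.1 * g⁻¹, hcon _
      ⟨hN.conj_mem _ (hH h.2) g, by
        show (g * h.1 * g⁻¹) • a = a
        have := (smul_eq_iff_conj g h.1 a a).2 (mem_pairStab.1 h.2).1
        rwa [hg1] at this⟩⟩
    obtain ⟨h, hh⟩ := (Finite.injective_iff_bijective (f := φ)).1 (fun h h' e => Subtype.ext
      ((MulAut.conj g).injective (congrArg Subtype.val e :))) |>.2 ⟨f Alt.v₀, S.mem _⟩
    have hv : g * h.1 * g⁻¹ = f Alt.v₀ := congrArg Subtype.val hh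
    refine hvc ?_
    rw [← hv, ← hg2]
    exact (smul_eq_iff_conj g h.1 b b).2 (mem_pairStab.1 h.2).2
  have hGa : Nat.card ↥(stabilizer G a) = 660 := by
    have h := (stabilizer G a).card_mul_index
    rw [MulAction.index_stabilizer_of_transitive, h12, hG] at h
    omega
  have h1 : 60 ∣ Nat.card ↥Na := S.card_H ▸ Subgroup.card_dvd_of_le hHa
  have h2 : Nat.card ↥Na ∣ 660 := hGa ▸ Subgroup.card_dvd_of_le inf_le_right
  have h3 : Nat.card ↥Na ≠ 60 := fun h => hxH
    ((Subgroup.eq_of_le_of_card_ge hHa (by rw [h, S.card_H])).symm ▸ hxNa)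
  have h660 : Nat.card ↥Na = 660 := by
    obtain ⟨k, hk⟩ := h1
    rw [hk] at h2 h3 ⊢
    have h11 : k ∣ 11 := Nat.dvd_of_mul_dvd_mul_left (show 0 < 60 by norm_num) h2
    rcases (Nat.dvd_prime (show Nat.Prime 11 by norm_num)).1 h11 with rfl | rfl <;> omega
  refine Subgroup.eq_top_of_card_eq N ?_
  have h := (stabilizer ↥N a).card_mul_index
  rw [MulAction.index_stabilizer_of_transitive, h12] at h
  have e : Nat.card ↥(stabilizer ↥N a) = Nat.card ↥Na :=
    Nat.card_congr ⟨fun x => ⟨x.1.1, x.1.2, x.2⟩, fun x => ⟨⟨x.1, x.2.1⟩, x.2.2⟩, fun _ => rfl, fun _ => rfl⟩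
  rw [e, h660] at h
  omega

end Setting

/-- The classification. -/
theorem classify [FaithfulSMul G Ω] (h2 : IsMultiplyPretransitive G Ω 2) {a b : Ω} (hab : a ≠ b)
    (hnr : NoRegular G Ω) (e : ↥(pairStab a b : Subgroup G) ≃* ↥A5) :
    (Nat.card Ω = 7 ∧ Nonempty (G ≃* ↥(alternatingGroup (Fin 7)))) ∨
      (Nat.card Ω = 12 ∧ Cfsg.Spor.IsoM11 G) := by
  obtain ⟨f, S⟩ := exists_setting h2 hab e
  by_cases hno : ∃ z : G, CenSwap a b z
  · obtain ⟨z, hz⟩ := hno
    exact (S.false_of_censwap hz hnr).elim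
  push Not at hno
  obtain ⟨ψ, Y⟩ := S.exists_sym hno
  by_cases hA : CaseA Ω (f Alt.t₀) (f Alt.v₀)
  · exact Or.inl (Y.seven S hA)
  have h12 := Y.twelve S hA
  obtain ⟨c, hJc, hvc⟩ : ∃ c : Ω, f Alt.t₀ • c = c ∧ f Alt.v₀ • c ≠ c := by
    by_contra hcon
    push Not at hcon
    exact hA fun c hc => hcon c hc
  have := S.simple_twelve hnr h12 hJc hvc
  have : IsSimpleGroup ↥Cfsg.Spor.M11 := CfsgLib.Sporadic.sporM11_isSimple
  have := Fintype.ofFinite G
  exact Or.inr ⟨h12, CfsgLib.Blocks.Order7920.nonempty_mulEquiv (by rw [S.card_G, h12])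
    CfsgLib.Sporadic.card_sporM11⟩

end CfsgLib.KimuraFive
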