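import Cfsg.Agent.Lib.Perm.KimuraFive.Alt
import Cfsg.Agent.Lib.Perm.KimuraFour.BData
import Cfsg.Agent.Lib.Perm.KimuraFour.Translation

/-!
# Two-point stabiliser isomorphic to the alternating group of degree five
-/

set_option autoImplicit false

namespace CfsgLib.KimuraFive

open MulAction CfsgLib.KimuraFour

variable {G : Type*} [Group G] {Ω : Type*} [MulAction G Ω]

local notation "A5" => alternatingGroup (Fin 5)
local notation "Cent" J:max => Subgroup.centralizer (Singleton.singleton J : Set _)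

/-- The standing hypotheses, with a chosen embedding of the alternating group. -/
structure Setting (G : Type*) [Group G] (Ω : Type*) [MulAction G Ω] (a b : Ω) (f : A5 →* G) : Prop where
  two : IsMultiplyPretransitive G Ω 2
  faithful : FaithfulSMul G Ω
  ne : a ≠ b
  inj : Function.Injective f
  range : f.range = pairStab a b

theorem exists_setting [FaithfulSMul G Ω] (h2 : IsMultiplyPretransitive G Ω 2) {a b : Ω} (hab : a ≠ b)
    (e : ↥(pairStab a b : Subgroup G) ≃* ↥A5) : ∃ f : A5 →* G, Setting G Ω a b f := by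
  refine ⟨(pairStab a b : Subgroup G).subtype.comp e.symm.toMonoidHom, h2, inferInstance, hab,
    Subtype.val_injective.comp e.symm.injective, ?_⟩
  ext x
  refine ⟨fun ⟨y, hy⟩ => hy ▸ (e.symm y).2, fun hx => ⟨e ⟨x, hx⟩, ?_⟩⟩
  simp

/-- A swapping involution centralising the two-point stabiliser. -/
def CenSwap (a b : Ω) (z : G) : Prop :=
  orderOf z = 2 ∧ z • a = b ∧ ∀ h ∈ (pairStab a b : Subgroup G), z * h = h * z

/-- The four-group of the stabiliser fixes every fixed point of its involution `J`. -/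
def CaseA (Ω : Type*) [MulAction G Ω] (J v : G) : Prop := ∀ c : Ω, J • c = c → v • c = c

namespace Setting

variable {a b : Ω} {f : A5 →* G} (S : Setting G Ω a b f)

include S

theorem mem (x : A5) : f x ∈ (pairStab a b : Subgroup G) := S.range ▸ ⟨x, rfl⟩

theorem exists_preimage {g : G} (hg : g ∈ (pairStab a b : Subgroup G)) : ∃ x, f x = g := by
  rw [← S.range] at hg; exact hg

theorem orderOf_two {x : A5} (h : x * x = 1 ∧ x ≠ 1) : orderOf (f x) = 2 :=
  orderOf_two_of (by rw [← map_mul, h.1, map_one]) fun e => h.2 (S.inj (e.trans f.map_one.symm))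

theorem card_H : Nat.card ↥(pairStab a b : Subgroup G) = 60 := by
  rw [← S.range, ← Nat.card_congr (MonoidHom.ofInjective S.inj).toEquiv, Alt.card_five]

theorem card_G [Finite G] [Finite Ω] : Nat.card G = Nat.card Ω * (Nat.card Ω - 1) * 60 := by
  rw [card_eq_pairStab S.two S.ne, S.card_H]

theorem invData : InvData G Ω a b (f Alt.t₀) := by
  refine ⟨S.two, S.ne, S.orderOf_two Alt.t₀_sq, S.mem _, fun x hx hx2 => ?_⟩
  obtain ⟨y, rfl⟩ := S.exists_preimage hx
  rw [orderOf_injective f S.inj] at hx2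
  obtain ⟨h, hh⟩ := Alt.inv_conj y (mul_self_of_orderOf hx2) (by rintro rfl; simp at hx2)
  exact ⟨f h, S.mem h, by rw [← map_inv, ← map_mul, ← map_mul, hh]⟩

theorem isConj_inv {x : G} (hx : x ∈ (pairStab a b : Subgroup G)) (hx2 : orderOf x = 2) :
    IsConj (f Alt.t₀) x := by
  obtain ⟨h, -, hh⟩ := S.invData.conjJ x hx hx2
  exact isConj_iff.2 ⟨h, hh⟩

theorem gamma_eq [Finite G] : InvData.gamma a b (f Alt.t₀) = 15 := by
  classical
  have e : {x : A5 // x * x = 1 ∧ x ≠ 1} ≃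
      {x : G // IsConj (f Alt.t₀) x ∧ x • a = a ∧ x • b = b} := by
    refine Equiv.ofBijective (fun x => ⟨f x.1, S.isConj_inv (S.mem _) (S.orderOf_two x.2),
      mem_pairStab.1 (S.mem _)⟩) ⟨fun x y h => Subtype.ext (S.inj (congrArg Subtype.val h)), ?_⟩
    rintro ⟨x, hx1, hx2⟩
    obtain ⟨y, rfl⟩ := S.exists_preimage (mem_pairStab.2 hx2)
    have ho := S.invData.orderOf_of_conj hx1
    rw [orderOf_injective f S.inj] at ho
    exact ⟨⟨y, mul_self_of_orderOf ho, by rintro rfl; simp at ho⟩, rfl⟩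
  rw [InvData.gamma, ← Nat.card_congr e, Nat.card_eq_fintype_card, Fintype.card_subtype, Alt.inv_count]

theorem comm_vJ : f Alt.v₀ * f Alt.t₀ = f Alt.t₀ * f Alt.v₀ := by
  rw [← map_mul, ← map_mul, Alt.v₀_facts.1]

theorem v_mem_cent : f Alt.v₀ ∈ Cent (f Alt.t₀) := Subgroup.mem_centralizer_singleton_iff.2 S.comm_vJ

theorem cent_cases {g : G} (hg : g ∈ (pairStab a b : Subgroup G)) (hc : g ∈ Cent (f Alt.t₀)) :
    g = 1 ∨ g = f Alt.t₀ ∨ g = f Alt.v₀ ∨ g = f Alt.v₀ * f Alt.t₀ := by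
  obtain ⟨y, rfl⟩ := S.exists_preimage hg
  rw [Subgroup.mem_centralizer_singleton_iff, ← map_mul, ← map_mul] at hc
  rcases Alt.cent_t₀ y (S.inj hc) with e | e | e | e <;> subst e <;> simp [map_mul]

theorem sqStab : SqStab a b (f Alt.t₀) := by
  intro h hh hc
  rcases S.cent_cases hh (Subgroup.mem_centralizer_singleton_iff.2 hc) with rfl | rfl | rfl | rfl
  · exact one_mul _
  · rw [← map_mul, Alt.t₀_sq.1, map_one]
  · rw [← map_mul, Alt.v₀_sq.1, map_one]
  · rw [← map_mul, ← map_mul, Alt.v₀_facts.2.2.1, map_one]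

theorem mem_inf_cent_iff {g : G} : g ∈ (pairStab a b ⊓ Cent (f Alt.t₀) : Subgroup G) ↔
    g = 1 ∨ g = f Alt.t₀ ∨ g = f Alt.v₀ ∨ g = f Alt.v₀ * f Alt.t₀ := by
  refine ⟨fun h => S.cent_cases h.1 h.2, ?_⟩
  have hJ : f Alt.t₀ ∈ Cent (f Alt.t₀) := Subgroup.mem_centralizer_singleton_iff.2 rfl
  rintro (rfl | rfl | rfl | rfl)
  exacts [one_mem _, ⟨S.mem _, hJ⟩, ⟨S.mem _, S.v_mem_cent⟩,
    ⟨mul_mem (S.mem _) (S.mem _), mul_mem S.v_mem_cent hJ⟩]

theorem card_inf_cent : Nat.card ↥(pairStab a b ⊓ Cent (f Alt.t₀) : Subgroup G) = 4 := by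
  classical
  have hset : ((pairStab a b ⊓ Cent (f Alt.t₀) : Subgroup G) : Set G) =
      (({1, Alt.t₀, Alt.v₀, Alt.v₀ * Alt.t₀} : Finset A5).image f : Finset G) := by
    ext g
    simp only [SetLike.mem_coe, S.mem_inf_cent_iff, Finset.coe_image, Finset.coe_insert, Finset.coe_singleton,
      Set.image_insert_eq, Set.image_singleton, Set.mem_insert_iff, Set.mem_singleton_iff, map_one, map_mul]
  calc Nat.card ↥(pairStab a b ⊓ Cent (f Alt.t₀) : Subgroup G)
      = Nat.card ((({1, Alt.t₀, Alt.v₀, Alt.v₀ * Alt.t₀} : Finset A5).image f : Finset G) : Set G) := by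
        rw [← hset]; rfl
    _ = (({1, Alt.t₀, Alt.v₀, Alt.v₀ * Alt.t₀} : Finset A5).image f).card := by
        rw [Nat.card_coe_set_eq, Set.ncard_coe_finset]
    _ = 4 := by rw [Finset.card_image_of_injective _ S.inj]; decide +kernel

theorem card_cent [Finite G] [Finite Ω] :
    Nat.card ↥(Cent (f Alt.t₀)) = 4 * (fixCard Ω (f Alt.t₀) * (fixCard Ω (f Alt.t₀) - 1)) := by
  rw [S.invData.card_cent, S.card_inf_cent, mul_comm]

theorem center_trivial {g : G} (hg : g ∈ (pairStab a b : Subgroup G))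
    (h : ∀ k ∈ (pairStab a b : Subgroup G), g * k = k * g) : g = 1 := by
  obtain ⟨y, rfl⟩ := S.exists_preimage hg
  rw [Alt.eq_one_of_central y fun x => S.inj (by rw [map_mul, map_mul]; exact h _ (S.mem x)), map_one]

theorem conj_mem_of_swap {g x : G} (hg : g • a = b) (hg' : g • b = a) (hx : x ∈ (pairStab a b : Subgroup G)) :
    g * x * g⁻¹ ∈ (pairStab a b : Subgroup G) := by
  have h := (conj_mem_pairStab_iff g x).2 hx
  rw [hg, hg'] at h
  exact mem_pairStab.2 ⟨(mem_pairStab.1 h).2, (mem_pairStab.1 h).1⟩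

theorem censwap_of_swap {g : G} (hga : g • a = b) (hgb : g • b = a)
    (hc : ∀ h ∈ (pairStab a b : Subgroup G), g * h = h * g) : CenSwap a b g := by
  have hm : g * g ∈ (pairStab a b : Subgroup G) :=
    mem_pairStab.2 ⟨by rw [mul_smul, hga, hgb], by rw [mul_smul, hgb, hga]⟩
  refine ⟨orderOf_two_of (S.center_trivial hm fun k hk => ?_) (fun e => S.ne (by rw [← hga, e, one_smul])), hga, hc⟩
  rw [mul_assoc, hc k hk, ← mul_assoc, hc k hk, mul_assoc]

/-- With a central swap every swapping involution is the central one or its product with an involution. -/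
theorem swap_cases {z : G} (hz : CenSwap a b z) {x : G} (hx : orderOf x = 2) (hxa : x • a = b) :
    x = z ∨ ∃ h ∈ (pairStab a b : Subgroup G), orderOf h = 2 ∧ x = z * h := by
  have hxb : x • b = a := KimuraFour.Setting.swap_back hx hxa
  have hzb : z • b = a := KimuraFour.Setting.swap_back hz.1 hz.2.1
  have hz2 := mul_self_of_orderOf hz.1
  have hm : z * x ∈ (pairStab a b : Subgroup G) :=
    mem_pairStab.2 ⟨by rw [mul_smul, hxa, hzb], by rw [mul_smul, hxb, hz.2.1]⟩
  set h := z * x with hh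
  have hxh : x = z * h := by rw [hh, ← mul_assoc, hz2, one_mul]
  by_cases h1 : h = 1
  · exact Or.inl (by rw [hxh, h1, mul_one])
  refine Or.inr ⟨h, hm, orderOf_two_of ?_ h1, hxh⟩
  have h2 := mul_self_of_orderOf hx
  rw [hxh, mul_assoc, ← mul_assoc h, ← hz.2.2 h hm, mul_assoc, ← mul_assoc z z, hz2, one_mul] at h2
  exact h2

theorem censwap_mul_conj {z h : G} (hz : CenSwap a b z) (hh : h ∈ (pairStab a b : Subgroup G))
    (hh2 : orderOf h = 2) : IsConj (z * f Alt.t₀) (z * h) := by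
  obtain ⟨k, hk, he⟩ := S.invData.conjJ h hh hh2
  refine isConj_iff.2 ⟨k, ?_⟩
  rw [← he, ← mul_assoc, ← hz.2.2 k hk]
  group

/-- With a central swap, a class of involutions missing a swapping involution misses the other kind. -/
theorem swap_eq_of_not_conj {z : G} (hz : CenSwap a b z) (hzJ : IsConj (f Alt.t₀) (z * f Alt.t₀)) {x : G}
    (hx : orderOf x = 2) (hxa : x • a = b) (hn : ¬ IsConj (f Alt.t₀) x) : x = z := by
  rcases S.swap_cases hz hx hxa with e | ⟨h, hh, hh2, rfl⟩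
  · exact e
  · exact absurd (hzJ.trans (S.censwap_mul_conj hz hh hh2)) hn

theorem fix_of_inf_cent (hA : CaseA Ω (f Alt.t₀) (f Alt.v₀)) {g : G}
    (hg : g ∈ (pairStab a b ⊓ Cent (f Alt.t₀) : Subgroup G)) {c : Ω} (hc : f Alt.t₀ • c = c) : g • c = c := by
  rcases S.mem_inf_cent_iff.1 hg with rfl | rfl | rfl | rfl
  · exact one_smul _ _
  · exact hc
  · exact hA c hc
  · rw [mul_smul, hc, hA c hc]

/-- In case A the induced group is sharply doubly transitive. -/
theorem sharp_of_caseA (hA : CaseA Ω (f Alt.t₀) (f Alt.v₀)) (x : ↥(inducedPerm Ω (f Alt.t₀)))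
    (c d : ↥(fixPts Ω (f Alt.t₀))) (hcd : c ≠ d) (hc : x • c = c) (hd : x • d = d) : x = 1 := by
  obtain ⟨g, rfl⟩ := induce_surjective (f Alt.t₀) x
  obtain ⟨k, hk, h1, h2⟩ := S.invData.exists_centralizing S.invData.smul_a S.invData.smul_b c.2 d.2 S.ne
    (fun e => hcd (Subtype.ext e))
  have hm : k⁻¹ * (g : G) * k ∈ (pairStab a b ⊓ Cent (f Alt.t₀) : Subgroup G) := by
    refine Subgroup.mem_inf.2 ⟨?_, Subgroup.mul_mem _ (Subgroup.mul_mem _ (Subgroup.inv_mem _ hk) g.2) hk⟩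
    show _ ∈ (pairStab a b : Subgroup G)
    rw [← conj_mem_pairStab_iff k, show k * (k⁻¹ * (g : G) * k) * k⁻¹ = g by group, h1, h2]
    exact mem_pairStab.2 ⟨congrArg Subtype.val hc, congrArg Subtype.val hd⟩
  rw [induce_eq_one_iff]
  intro e he
  have h3 := S.fix_of_inf_cent hA hm (c := k⁻¹ • e) (smul_mem_fix (inv_mem hk) he)
  rwa [mul_smul, mul_smul, smul_inv_smul, (MulAction.injective _).eq_iff] at h3

/-- Outside case A the image of `v` generates the two-point stabiliser. -/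
theorem bData [Finite G] [Finite Ω] (hB : ¬ CaseA Ω (f Alt.t₀) (f Alt.v₀)) :
    BData S.invData ⟨f Alt.v₀, S.v_mem_cent⟩ := by
  set v : ↥(Cent (f Alt.t₀)) := ⟨f Alt.v₀, S.v_mem_cent⟩ with hv
  have hne : induce Ω (f Alt.t₀) v ≠ 1 := fun h => hB ((induce_eq_one_iff v).1 h)
  have hv2 : v * v = 1 := Subtype.ext (by
    show f Alt.v₀ * f Alt.v₀ = 1
    rw [← map_mul, Alt.v₀_sq.1, map_one])
  have hcases : ∀ g : ↥(Cent (f Alt.t₀)), (g : G) ∈ (pairStab a b : Subgroup G) →
      ((g : G) = 1 ∨ (g : G) = f Alt.t₀) ∧ induce Ω (f Alt.t₀) g = 1 ∨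
        induce Ω (f Alt.t₀) g = induce Ω (f Alt.t₀) v := by
    intro g hg
    rcases S.cent_cases hg g.2 with e | e | e | e
    · exact Or.inl ⟨Or.inl e, (induce_eq_one_iff g).2 fun c _ => by rw [e, one_smul]⟩
    · exact Or.inl ⟨Or.inr e, (induce_eq_one_iff g).2 fun c hc => by rw [e]; exact hc⟩
    · exact Or.inr (by rw [show g = v from Subtype.ext e])
    · exact Or.inr ((induce_eq_iff g v).2 fun c hc => by rw [e, mul_smul, hc])
  have hpair : ∀ g : ↥(Cent (f Alt.t₀)), induce Ω (f Alt.t₀) g • S.invData.fa = S.invData.fa →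
      induce Ω (f Alt.t₀) g • S.invData.fb = S.invData.fb → (g : G) ∈ (pairStab a b : Subgroup G) :=
    fun g h1 h2 => mem_pairStab.2 ⟨congrArg Subtype.val h1, congrArg Subtype.val h2⟩
  have hstab : ∀ x ∈ (pairStab S.invData.fa S.invData.fb : Subgroup ↥(inducedPerm Ω (f Alt.t₀))),
      x = 1 ∨ x = induce Ω (f Alt.t₀) v := by
    intro x hx
    obtain ⟨g, rfl⟩ := induce_surjective (f Alt.t₀) x
    obtain ⟨h1, h2⟩ := mem_pairStab.1 hx
    rcases hcases g (hpair g h1 h2) with ⟨-, h⟩ | h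
    · exact Or.inl h
    · exact Or.inr h
  obtain ⟨hva, hvb⟩ := mem_pairStab.1 (S.mem Alt.v₀)
  refine ⟨S.mem _, S.orderOf_two Alt.v₀_sq, fun h => Alt.v₀_facts.2.1 (S.inj h), ⟨S.invData.two_induced,
    S.invData.fa_ne_fb, ?_, mem_pairStab.2 ⟨Subtype.ext hva, Subtype.ext hvb⟩, fun x hx hx2 => ?_⟩,
    hstab, fun g hg => ?_⟩
  · exact orderOf_two_of (by rw [← map_mul, hv2, map_one]) hne
  · rcases hstab x hx with e | e
    · simp [e] at hx2
    · exact ⟨1, one_mem _, by simp [e]⟩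
  · rcases hcases g (hpair g (by rw [hg, one_smul]) (by rw [hg, one_smul])) with ⟨h, -⟩ | h
    · exact h
    · exact absurd (h.symm.trans hg) hne

/-- The lifts of the conjugates of the image of `v` are conjugate to `J`. -/
theorem isConj_of_bar [Finite G] [Finite Ω] {v : ↥(Cent (f Alt.t₀))} (B : BData S.invData v) (g : ↥(Cent (f Alt.t₀)))
    (h : IsConj (induce Ω (f Alt.t₀) v) (induce Ω (f Alt.t₀) g)) : IsConj (f Alt.t₀) (g : G) := by
  obtain ⟨q, hq⟩ := isConj_iff.1 h
  obtain ⟨q', rfl⟩ := induce_surjective (f Alt.t₀) q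
  rw [← map_inv, ← map_mul, ← map_mul] at hq
  have hq'J : Commute (q' : G) (f Alt.t₀) := Subgroup.mem_centralizer_singleton_iff.1 q'.2
  rcases B.eq_or_of_induce hq.symm with e | e
  · exact (S.isConj_inv B.memH B.ord).trans (isConj_iff.2 ⟨q', e.symm⟩)
  · refine (S.isConj_inv B.vJ_mem B.vJ_ord).trans (isConj_iff.2 ⟨q', ?_⟩)
    rw [e]
    show (q' : G) * (v * f Alt.t₀) * (q' : G)⁻¹ = q' * v * (q' : G)⁻¹ * f Alt.t₀
    calc (q' : G) * (v * f Alt.t₀) * (q' : G)⁻¹ = q' * v * (f Alt.t₀ * (q' : G)⁻¹) := by group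
      _ = _ := by rw [← hq'J.inv_left.eq]; group

end Setting

end CfsgLib.KimuraFive
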