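import Cfsg.Agent.Lib.Perm.KimuraFive.CenSwapCase
import Cfsg.Agent.Lib.ClassSizes.AlternatingAut

/-!
# Without a central swap the pair stabiliser is the symmetric group of degree five
-/

set_option autoImplicit false

namespace CfsgLib.KimuraFive

open MulAction CfsgLib.KimuraFour

variable {G : Type*} [Group G] {Ω : Type*} [MulAction G Ω]

local notation "A5" => alternatingGroup (Fin 5)
local notation "S5" => Equiv.Perm (Fin 5)

/-- The stabiliser of the pair as a copy of the symmetric group. -/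
structure Sym5 (a b : Ω) (f : A5 →* G) (ψ : S5 →* G) : Prop where
  inj : Function.Injective ψ
  ext : ∀ x : A5, ψ x = f x
  swap : ∀ π : S5, Equiv.Perm.sign π = -1 → ψ π • a = b
  surj : ∀ g : G, g • a = b → g • b = a → ∃ π : S5, Equiv.Perm.sign π = -1 ∧ ψ π = g

theorem conjNormal_bij : Function.Bijective (MulAut.conjNormal : S5 →* MulAut A5) :=
  CfsgLib.ClassSizes.AlternatingAut.conjNormal_bijective (by decide) (by decide)

theorem conjNormal_of_mem (y x : A5) : MulAut.conjNormal (y : S5) x = y * x * y⁻¹ :=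
  Subtype.ext (MulAut.conjNormal_apply _ _)

namespace Setting

variable {a b : Ω} {f : A5 →* G} (S : Setting G Ω a b f)

include S

/-- Conjugation by an element permuting the base pair is induced by a permutation. -/
theorem exists_perm {g : G} (hg : ∀ x : A5, g * f x * g⁻¹ ∈ (pairStab a b : Subgroup G)) :
    ∃ π : S5, ∀ x : A5, f (MulAut.conjNormal π x) = g * f x * g⁻¹ := by
  choose φ hφ using fun x => S.exists_preimage (hg x)
  let α : A5 →* A5 :=
    { toFun := φ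
      map_one' := S.inj (by rw [hφ, map_one, mul_one, mul_inv_cancel])
      map_mul' := fun x y => S.inj (by rw [map_mul f (φ x), hφ, hφ, hφ, map_mul]; group) }
  have hα : Function.Injective α := fun x y h => by
    have h1 : g * f x * g⁻¹ = g * f y * g⁻¹ := by rw [← hφ, ← hφ]; exact congrArg f h
    exact S.inj (mul_left_cancel (mul_right_cancel h1))
  obtain ⟨π, hπ⟩ := conjNormal_bij.2 (MulEquiv.ofBijective α (Finite.injective_iff_bijective.1 hα))
  exact ⟨π, fun x => by rw [hπ]; exact hφ x⟩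

theorem exists_sym [Finite G] [Finite Ω] (hno : ∀ z : G, ¬ CenSwap a b z) : ∃ ψ : S5 →* G, Sym5 a b f ψ := by
  classical
  let K : Subgroup G :=
    { carrier := {g | (g • a = a ∧ g • b = b) ∨ (g • a = b ∧ g • b = a)}
      one_mem' := Or.inl ⟨one_smul _ _, one_smul _ _⟩
      mul_mem' := fun {g h} hg hh => by
        rcases hg with ⟨h1, h2⟩ | ⟨h1, h2⟩ <;> rcases hh with ⟨k1, k2⟩ | ⟨k1, k2⟩
        · exact Or.inl ⟨by rw [mul_smul, k1, h1], by rw [mul_smul, k2, h2]⟩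
        · exact Or.inr ⟨by rw [mul_smul, k1, h2], by rw [mul_smul, k2, h1]⟩
        · exact Or.inr ⟨by rw [mul_smul, k1, h1], by rw [mul_smul, k2, h2]⟩
        · exact Or.inl ⟨by rw [mul_smul, k1, h2], by rw [mul_smul, k2, h1]⟩
      inv_mem' := fun {g} hg => by
        rcases hg with ⟨h1, h2⟩ | ⟨h1, h2⟩
        · exact Or.inl ⟨by rw [inv_smul_eq_iff, h1], by rw [inv_smul_eq_iff, h2]⟩
        · exact Or.inr ⟨by rw [inv_smul_eq_iff, h2], by rw [inv_smul_eq_iff, h1]⟩ }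
  have hcon : ∀ g ∈ K, ∀ x : A5, g * f x * g⁻¹ ∈ (pairStab a b : Subgroup G) := by
    rintro g (⟨h1, h2⟩ | ⟨h1, h2⟩) x
    · exact mul_mem (mul_mem (mem_pairStab.2 ⟨h1, h2⟩) (S.mem x)) (inv_mem (mem_pairStab.2 ⟨h1, h2⟩))
    · exact S.conj_mem_of_swap h1 h2 (S.mem x)
  have huniq : ∀ g ∈ K, ∀ g' ∈ K, (∀ x : A5, g * f x * g⁻¹ = g' * f x * g'⁻¹) → g = g' := by
    intro g hg g' hg' h
    have hcen : ∀ k ∈ (pairStab a b : Subgroup G), (g⁻¹ * g') * k = k * (g⁻¹ * g') := by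
      intro k hk
      obtain ⟨x, rfl⟩ := S.exists_preimage hk
      calc g⁻¹ * g' * f x = g⁻¹ * (g' * f x * g'⁻¹) * g' := by group
        _ = _ := by rw [← h x]; group
    rcases K.mul_mem (K.inv_mem hg) hg' with ⟨h1, h2⟩ | ⟨h1, h2⟩
    · exact inv_mul_eq_one.1 (S.center_trivial (mem_pairStab.2 ⟨h1, h2⟩) hcen)
    · exact absurd (S.censwap_of_swap h1 h2 hcen) (hno _)
  have hHK : ∀ x : A5, f x ∈ K := fun x => Or.inl (mem_pairStab.1 (S.mem x))
  have heven : ∀ (y x : A5), f (MulAut.conjNormal (y : S5) x) = f y * f x * (f y)⁻¹ := fun y x => by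
    rw [conjNormal_of_mem, map_mul, map_mul, map_inv]
  obtain ⟨g₀, hg₀a, hg₀b⟩ := exists_smul_pair S.two S.ne (Ne.symm S.ne)
  change g₀ • a = b at hg₀a
  change g₀ • b = a at hg₀b
  have hg₀ : g₀ ∈ K := Or.inr ⟨hg₀a, hg₀b⟩
  obtain ⟨π₀, hπ₀⟩ := S.exists_perm (hcon g₀ hg₀)
  have hodd : ∀ g : G, g • a = b → g • b = a → ∀ π : S5, (∀ x : A5, f (MulAut.conjNormal π x) = g * f x * g⁻¹) →
      Equiv.Perm.sign π = -1 := by
    intro g h1 h2 π hπ
    refine (Int.units_eq_one_or _).resolve_left fun hs => ?_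
    have hg := huniq g (Or.inr ⟨h1, h2⟩) (f ⟨π, Equiv.Perm.mem_alternatingGroup.2 hs⟩) (hHK _)
      fun x => by rw [← hπ x, ← heven]
    have := (mem_pairStab.1 (S.mem ⟨π, Equiv.Perm.mem_alternatingGroup.2 hs⟩)).1
    rw [← hg, h1] at this
    exact S.ne this.symm
  have hex : ∀ π : S5, ∃ g ∈ K, ∀ x : A5, g * f x * g⁻¹ = f (MulAut.conjNormal π x) := by
    intro π
    rcases Int.units_eq_one_or (Equiv.Perm.sign π) with hs | hs
    · exact ⟨f ⟨π, Equiv.Perm.mem_alternatingGroup.2 hs⟩, hHK _, fun x => (heven ⟨π, _⟩ x).symm⟩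
    · have hs' : π₀⁻¹ * π ∈ A5 := by
        rw [Equiv.Perm.mem_alternatingGroup, map_mul, map_inv, hodd g₀ hg₀a hg₀b π₀ hπ₀, hs]; rfl
      refine ⟨g₀ * f ⟨_, hs'⟩, mul_mem hg₀ (hHK _), fun x => ?_⟩
      calc g₀ * f ⟨_, hs'⟩ * f x * (g₀ * f ⟨_, hs'⟩)⁻¹ = g₀ * (f ⟨_, hs'⟩ * f x * (f ⟨_, hs'⟩)⁻¹) * g₀⁻¹ := by
            group
        _ = f (MulAut.conjNormal π₀ (MulAut.conjNormal (π₀⁻¹ * π) x)) := by
            rw [← heven, hπ₀]
        _ = _ := by rw [← MulAut.mul_apply, ← map_mul, mul_inv_cancel_left]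
  choose ψ₀ hψK hψ using hex
  let ψ : S5 →* G :=
    { toFun := ψ₀
      map_one' := huniq _ (hψK 1) 1 K.one_mem fun x => by rw [hψ, map_one, MulAut.one_apply]; group
      map_mul' := fun π π' => huniq _ (hψK _) _ (mul_mem (hψK π) (hψK π')) fun x => by
        rw [hψ, map_mul, MulAut.mul_apply, ← hψ π, ← hψ π']; group }
  have hψe : ∀ π, ψ π = ψ₀ π := fun _ => rfl
  have hext : ∀ x : A5, ψ x = f x := fun y =>
    huniq _ (hψK _) _ (hHK y) fun x => by rw [hψ]; exact heven y x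
  refine ⟨ψ, (injective_iff_map_eq_one _).2 fun π hπ => conjNormal_bij.1 ?_, hext, fun π hs => ?_, fun g h1 h2 => ?_⟩
  · rw [map_one]
    refine MulEquiv.ext fun x => S.inj ?_
    rw [← hψ, ← hψe, hπ, MulAut.one_apply]; group
  · rcases hψK π with ⟨h1, h2⟩ | ⟨h1, -⟩
    · exfalso
      obtain ⟨y, hy⟩ := S.exists_preimage (mem_pairStab.2 ⟨h1, h2⟩)
      have h : π = y := conjNormal_bij.1 (MulEquiv.ext fun x => S.inj (by rw [← hψ, ← hy, heven]))
      rw [h, Equiv.Perm.mem_alternatingGroup.1 y.2] at hs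
      exact absurd hs (by decide)
    · exact h1
  · obtain ⟨π, hπ⟩ := S.exists_perm (hcon g (Or.inr ⟨h1, h2⟩))
    exact ⟨π, hodd g h1 h2 π hπ, huniq _ (hψK π) g (Or.inr ⟨h1, h2⟩) fun x => by rw [hψ, hπ]⟩

end Setting

namespace Sym5

variable {a b : Ω} {f : A5 →* G} {ψ : S5 →* G} (Y : Sym5 a b f ψ) (S : Setting G Ω a b f)

local notation "J" => f Alt.t₀

include Y S

theorem swap_form {x : G} (hx : orderOf x = 2) (hxa : x • a = b) :
    ∃ h : A5, f h * ψ Alt.s₀ * (f h)⁻¹ = x := by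
  obtain ⟨π, hs, rfl⟩ := Y.surj x hxa (KimuraFour.Setting.swap_back hx hxa)
  obtain ⟨h, hh⟩ := Alt.odd_inv_conj π (Y.inj (by rw [map_mul, mul_self_of_orderOf hx, map_one])) hs
  exact ⟨h, by rw [← Y.ext, ← map_inv, ← map_mul, ← map_mul, hh]⟩

theorem isConj_swap [Finite G] [Finite Ω] [FaithfulSMul G Ω] : IsConj J (ψ Alt.s₀) := by
  obtain ⟨x, hx, hxa⟩ := S.invData.exists_conj_swap
  obtain ⟨h, rfl⟩ := Y.swap_form S (S.invData.orderOf_of_conj hx) hxa
  exact hx.trans (isConj_iff.2 ⟨(f h)⁻¹, by group⟩)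

theorem isConj_inv [Finite G] [Finite Ω] [FaithfulSMul G Ω] {x : G} (hx : orderOf x = 2) : IsConj J x :=
  isConj_all S.two S.ne (fun y hy hya => by
    obtain ⟨h, rfl⟩ := Y.swap_form S hy hya
    exact (Y.isConj_swap S).trans (isConj_iff.2 ⟨f h, rfl⟩)) hx

theorem order_two {π : S5} (h : π * π = 1) (h1 : π ≠ 1) : orderOf (ψ π) = 2 :=
  orderOf_two_of (by rw [← map_mul, h, map_one]) fun e => h1 (Y.inj (e.trans ψ.map_one.symm))

theorem beta_ten [Finite G] [Finite Ω] [FaithfulSMul G Ω] : InvData.beta a b J = 10 := by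
  classical
  have hne : ∀ π : S5, Equiv.Perm.sign π = -1 → π ≠ 1 := fun π hs e => by
    rw [e, map_one] at hs; exact absurd hs (by decide)
  have e : {π : S5 // π * π = 1 ∧ Equiv.Perm.sign π = -1} ≃ {x : G // IsConj J x ∧ x • a = b} := by
    refine Equiv.ofBijective (fun π => ⟨ψ π.1, Y.isConj_inv S (Y.order_two S π.2.1 (hne _ π.2.2)),
      Y.swap _ π.2.2⟩) ⟨fun π π' h => Subtype.ext (Y.inj (congrArg Subtype.val h)), fun x => ?_⟩
    have hx := S.invData.orderOf_of_conj x.2.1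
    obtain ⟨π, hs, hπ⟩ := Y.surj x.1 x.2.2 (KimuraFour.Setting.swap_back hx x.2.2)
    exact ⟨⟨π, Y.inj (by rw [map_mul, hπ, mul_self_of_orderOf hx, map_one]), hs⟩, Subtype.ext hπ⟩
  rw [InvData.beta, ← Nat.card_congr e, Nat.card_eq_fintype_card, Fintype.card_subtype, Alt.odd_inv_count]

theorem degree [Finite G] [Finite Ω] [FaithfulSMul G Ω] :
    3 * Nat.card Ω = fixCard Ω J * (2 * fixCard Ω J + 1) := by
  have hf := S.invData.formula
  rw [S.gamma_eq, Y.beta_ten S] at hf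
  have h2 := S.invData.two_le_fixCard
  have hle := fixCard_le (Ω := Ω) J
  obtain ⟨i, hi⟩ : ∃ i, fixCard Ω J = i + 1 := ⟨fixCard Ω J - 1, by omega⟩
  rw [hi, Nat.add_sub_cancel] at hf
  rw [hi] at hle ⊢
  have : (i + 1) * (2 * (i + 1) + 1) = 3 * (i + 1) + 2 * ((i + 1) * i) := by ring
  omega

end Sym5

end CfsgLib.KimuraFive
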