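import Cfsg.Agent.Lib.Perm.KimuraFive.SymSetting
import Cfsg.Agent.Lib.Perm.KimuraFour.SylowTools

/-!
# The four-group fixing the fixed points of its involution: the alternating group of degree seven
-/

set_option autoImplicit false

namespace CfsgLib.KimuraFive

open MulAction CfsgLib.KimuraFour

variable {G : Type*} [Group G] [Finite G] {Ω : Type*} [MulAction G Ω] [Finite Ω]

local notation "A5" => alternatingGroup (Fin 5)
local notation "S5" => Equiv.Perm (Fin 5)

/-- A faithful group of order 2520 on seven points is alternating. -/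
theorem iso_alternating_seven [FaithfulSMul G Ω] (hn : Nat.card Ω = 7) (hG : Nat.card G = 2520) :
    Nonempty (G ≃* ↥(alternatingGroup (Fin 7))) := by
  classical
  have := Fintype.ofFinite Ω
  haveI : Nontrivial Ω := Finite.one_lt_card_iff_nontrivial.1 (by omega)
  have hinj : Function.Injective (MulAction.toPermHom G Ω) := MulAction.toPerm_injective
  let e := MonoidHom.ofInjective hinj
  have hidx : (MulAction.toPermHom G Ω).range.index = 2 := by
    have h := (MulAction.toPermHom G Ω).range.card_mul_index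
    rw [← Nat.card_congr e.toEquiv, hG, Nat.card_perm, hn] at h
    have h7 : (7 : ℕ).factorial = 5040 := rfl
    omega
  have heq := Equiv.Perm.eq_alternatingGroup_of_index_eq_two hidx
  let q : Ω ≃ Fin 7 := Finite.equivFinOfCardEq hn
  exact ⟨e.trans ((MulEquiv.subgroupCongr heq).trans q.altCongrHom)⟩

namespace Sym5

variable {a b : Ω} {f : A5 →* G} {ψ : S5 →* G} (Y : Sym5 a b f ψ) (S : Setting G Ω a b f)

local notation "J" => f Alt.t₀

include Y S

omit Y in
theorem fix_four_mem_setStab (hA : CaseA Ω J (f Alt.v₀)) {x : A5} (hx : (x : S5) 4 = 4) :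
    f x ∈ setStab Ω J := by
  refine mem_setStab_of_forall fun c hc => ?_
  have h : (f x)⁻¹ * J * f x ∈ (pairStab a b ⊓ Subgroup.centralizer ({J} : Set G) : Subgroup G) := by
    rw [← map_inv, ← map_mul, ← map_mul, S.mem_inf_cent_iff]
    rcases Alt.fix_four x hx with e | e | e <;> rw [e] <;> simp [map_mul]
  have h1 := S.fix_of_inf_cent hA h hc
  rwa [mul_smul, mul_smul, inv_smul_eq_iff] at h1

theorem twelve_dvd (hA : CaseA Ω J (f Alt.v₀)) :
    12 * (fixCard Ω J - 1) ∣ 60 * (Nat.card Ω - 1) ∧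
      12 * (fixCard Ω J * (fixCard Ω J - 1)) ∣ Nat.card G := by
  classical
  haveI := S.faithful
  haveI : IsPretransitive G Ω := isPretransitive_of_is_two_pretransitive (h2 := S.two)
  set W := setStab Ω J with hW
  let F := setPts Ω J
  have D := S.invData
  let fa : ↥F := ⟨a, D.smul_a⟩
  let fb : ↥F := ⟨b, D.smul_b⟩
  have h2 : IsMultiplyPretransitive ↥W ↥F 2 := MulAction.is_two_pretransitive_iff.2 fun {c d c' d'} hcd hcd' => by
    obtain ⟨g, hg, h1, h2⟩ := D.exists_centralizing c.2 d.2 c'.2 d'.2 (fun e => hcd (Subtype.ext e))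
      (fun e => hcd' (Subtype.ext e))
    exact ⟨⟨g, cent_le_setStab (Ω := Ω) _ hg⟩, Subtype.ext h1, Subtype.ext h2⟩
  haveI : IsPretransitive ↥W ↥F := isPretransitive_of_is_two_pretransitive (h2 := h2)
  have hab : fa ≠ fb := fun e => S.ne (congrArg Subtype.val e)
  set P := (pairStab fa fb : Subgroup ↥W)
  have h12 : 12 ∣ Nat.card ↥P := by
    let L : Subgroup A5 :=
      { carrier := {x | (x : S5) 4 = 4}
        one_mem' := rfl
        mul_mem' := fun {x y} (hx : (x : S5) 4 = 4) (hy : (y : S5) 4 = 4) => by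
          show ((x : S5) * (y : S5)) 4 = 4
          rw [Equiv.Perm.mul_apply, hy, hx]
        inv_mem' := fun {x} (hx : (x : S5) 4 = 4) => by
          show ((x : S5)⁻¹) 4 = 4
          rw [Equiv.Perm.inv_eq_iff_eq, hx] }
    have hL : Nat.card ↥L = 12 := by
      rw [Nat.card_eq_fintype_card, ← Alt.card_fix_four, Fintype.card_subtype]
      congr 1
      ext x
      simp only [Finset.mem_filter, Finset.mem_univ, true_and]
      rfl
    let φ : ↥L →* ↥P :=
      { toFun := fun x => ⟨⟨f x.1, fix_four_mem_setStab S hA x.2⟩, mem_pairStab.2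
          ⟨Subtype.ext (mem_pairStab.1 (S.mem x.1)).1, Subtype.ext (mem_pairStab.1 (S.mem x.1)).2⟩⟩
        map_one' := Subtype.ext (Subtype.ext (map_one f))
        map_mul' := fun x y => Subtype.ext (Subtype.ext (map_mul f x.1 y.1)) }
    rw [← hL]
    exact Subgroup.card_dvd_of_injective φ fun x y h => Subtype.ext (S.inj (congrArg (fun p : ↥P => (p.1 : G)) h :))
  have hW' : Nat.card ↥W = fixCard Ω J * (fixCard Ω J - 1) * Nat.card ↥P := card_eq_pairStab h2 hab
  have h2f := D.two_le_fixCard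
  have hWa : Nat.card ↥(stabilizer ↥W fa) = (fixCard Ω J - 1) * Nat.card ↥P := by
    have h := (stabilizer ↥W fa).card_mul_index
    rw [MulAction.index_stabilizer_of_transitive, hW', show Nat.card ↥F = fixCard Ω J from rfl] at h
    exact Nat.eq_of_mul_eq_mul_right (show 0 < fixCard Ω J by omega) (by rw [h]; ring)
  refine ⟨?_, ?_⟩
  · have hGa : Nat.card ↥(stabilizer G a) = 60 * (Nat.card Ω - 1) := by
      have h := (stabilizer G a).card_mul_index
      rw [MulAction.index_stabilizer_of_transitive, S.card_G] at h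
      haveI : Nonempty Ω := ⟨a⟩
      exact Nat.eq_of_mul_eq_mul_right (Nat.card_pos (α := Ω)) (by rw [h]; ring)
    let φ : ↥(stabilizer ↥W fa) →* ↥(stabilizer G a) :=
      { toFun := fun x => ⟨(x.1 : G), (congrArg Subtype.val (mem_stabilizer_iff.1 x.2) :)⟩
        map_one' := rfl
        map_mul' := fun _ _ => rfl }
    have hd := Subgroup.card_dvd_of_injective φ fun x y h =>
      Subtype.ext (Subtype.ext (congrArg (fun p : ↥(stabilizer G a) => (p : G)) h :))
    rw [hWa, hGa] at hd
    refine Dvd.dvd.trans ?_ hd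
    rw [mul_comm 12]
    exact mul_dvd_mul_left _ h12
  · refine Dvd.dvd.trans ?_ W.card_subgroup_dvd_card
    rw [hW', mul_comm 12]
    exact mul_dvd_mul_left _ h12

/-- In case A the degree is seven. -/
theorem seven (hA : CaseA Ω J (f Alt.v₀)) :
    Nat.card Ω = 7 ∧ Nonempty (G ≃* ↥(alternatingGroup (Fin 7))) := by
  classical
  haveI := S.faithful
  have D := S.invData
  have hn := Y.degree S
  have h2f := D.two_le_fixCard
  have hle := fixCard_le (Ω := Ω) J
  haveI : Nonempty ↥(fixPts Ω J) := ⟨D.fa⟩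
  obtain ⟨p, N, R, -⟩ := exists_kernel_sharp (G := ↥(inducedPerm Ω J)) D.two_induced
    (by rw [card_fixPts]; exact h2f) (S.sharp_of_caseA hA)
  obtain ⟨k, hk⟩ := R.card_pow
  rw [card_fixPts] at hk
  obtain ⟨h1, h2⟩ := Y.twelve_dvd S hA
  rw [S.card_G] at h2
  obtain ⟨i, hi⟩ : ∃ i, fixCard Ω J = i + 1 := ⟨fixCard Ω J - 1, by omega⟩
  obtain ⟨n, hn'⟩ : ∃ n, Nat.card Ω = n + 1 := ⟨Nat.card Ω - 1, by omega⟩
  rw [hi] at hn h1 h2 hk h2f
  rw [hn'] at hn h1 h2
  rw [Nat.add_sub_cancel, Nat.add_sub_cancel] at h1 h2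
  have hn3 : 3 * n = i * (2 * i + 5) := by ring_nf at hn ⊢; omega
  have hd3 : 3 ∣ i + 1 := by
    have h : 36 * i ∣ (60 * (2 * i + 5)) * i := by
      rw [show (60 * (2 * i + 5)) * i = 3 * (60 * n) by rw [mul_left_comm, hn3]; ring, show 36 * i = 3 * (12 * i) by ring]
      exact mul_dvd_mul_left 3 h1
    have h' := Nat.dvd_of_mul_dvd_mul_right (show 0 < i by omega) h
    omega
  have hp : p = 3 := by
    rw [hk] at hd3
    exact ((Nat.prime_dvd_prime_iff_eq Nat.prime_three R.prime).1 (Nat.prime_three.dvd_of_dvd_pow hd3)).symm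
  subst hp
  have hi2 : i + 1 = 3 := by
    rcases k with _ | _ | k
    · simp at hk; omega
    · simpa using hk
    exfalso
    have h9 : 9 ∣ i + 1 := by rw [hk]; exact ⟨3 ^ k, by ring⟩
    obtain ⟨c, hc⟩ := h9
    have h : (108 * ((i + 1) * i)) ∣ (60 * ((2 * i + 3) * (2 * i + 5))) * ((i + 1) * i) := by
      rw [show 108 * ((i + 1) * i) = 9 * (12 * ((i + 1) * i)) by ring,
        show 60 * ((2 * i + 3) * (2 * i + 5)) * ((i + 1) * i) = 9 * ((n + 1) * n * 60) by
          rw [show 9 * ((n + 1) * n * 60) = 60 * ((3 * (n + 1)) * (3 * n)) by ring, hn, hn3]; ring]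
      exact mul_dvd_mul_left 9 h2
    have h' := Nat.dvd_of_mul_dvd_mul_right (Nat.mul_pos (by omega) (by omega)) h
    obtain ⟨d, hd⟩ := h'
    have he : (2 * i + 3) * (2 * i + 5) = 9 * (36 * c * c + 8 * c) + 3 := by
      obtain ⟨c', rfl⟩ : ∃ c', c = c' + 1 := ⟨c - 1, by omega⟩
      rw [show i = 9 * c' + 8 by omega]; ring
    omega
  have hi' : i = 2 := by omega
  rw [hi'] at hn3
  have h7 : Nat.card Ω = 7 := by omega
  exact ⟨h7, iso_alternating_seven h7 (by rw [S.card_G, h7])⟩

end Sym5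

end CfsgLib.KimuraFive
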