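import Cfsg.Agent.Lib.Perm.KimuraFive.Setting
import Cfsg.Agent.Lib.Perm.KimuraFour.TwoStab

/-!
# Doubly transitive groups with a two-point stabiliser of order two: the two swapping involutions
-/

set_option autoImplicit false

namespace CfsgLib.KimuraFive

open MulAction CfsgLib.KimuraFour

variable {X : Type*} [Group X] {Y : Type*} [MulAction X Y] {a b : Y} {u : X}

variable (D : InvData X Y a b u) (hstab : ∀ x ∈ (pairStab a b : Subgroup X), x = 1 ∨ x = u)

include D hstab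

theorem swap_two {w : X} (hw : orderOf w = 2) (hwa : w • a = b) :
    w * u = u * w ∧ orderOf (w * u) = 2 ∧ (w * u) • a = b ∧
      ∀ x, orderOf x = 2 → x • a = b → x = w ∨ x = w * u := by
  have hw2 := mul_self_of_orderOf hw
  have hu2 := mul_self_of_orderOf D.ordJ
  have hwb : w • b = a := KimuraFour.Setting.swap_back hw hwa
  have hu1 : u ≠ 1 := fun e => by simpa [e] using D.ordJ
  have hm : w * u * w⁻¹ ∈ (pairStab a b : Subgroup X) := by
    have := (conj_mem_pairStab_iff (a := a) (b := b) w u).2 D.memJ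
    rw [hwa, hwb] at this
    exact mem_pairStab.2 ⟨(mem_pairStab.1 this).2, (mem_pairStab.1 this).1⟩
  have hc : w * u = u * w := mul_inv_eq_iff_eq_mul.1
    ((hstab _ hm).resolve_left fun h => hu1 (conj_eq_one_iff.1 h))
  have hwua : (w * u) • a = b := by rw [mul_smul, D.smul_a, hwa]
  refine ⟨hc, orderOf_two_of ?_ fun e => D.ne (by rw [← hwua, e, one_smul]), hwua, fun x hx hxa => ?_⟩
  · rw [mul_assoc, ← mul_assoc u, ← hc, mul_assoc, ← mul_assoc w w, hw2, one_mul, hu2]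
  have hxb : x • b = a := KimuraFour.Setting.swap_back hx hxa
  have hm' : w * x ∈ (pairStab a b : Subgroup X) :=
    mem_pairStab.2 ⟨by rw [mul_smul, hxa, hwb], by rw [mul_smul, hxb, hwa]⟩
  rcases hstab _ hm' with h | h
  · left; rw [eq_inv_of_mul_eq_one_right h, inv_of_orderOf hw]
  · right; rw [← h, ← mul_assoc, hw2, one_mul]

variable [Finite X] [Finite Y]

theorem card_of_two {w : X} (hw : IsConj u w) (hwa : w • a = b) (hwu : IsConj u (w * u)) :
    Nat.card Y = fixCard Y u * (2 * fixCard Y u - 1) := by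
  obtain ⟨-, -, hwua, hcases⟩ := swap_two D hstab (D.orderOf_of_conj hw) hwa
  have hne : w ≠ w * u := fun h => by
    have := D.ordJ; rw [mul_eq_left.1 h.symm, orderOf_one] at this; norm_num at this
  have hβ : InvData.beta a b u = 2 := by
    rw [InvData.beta, Nat.card_eq_two_iff]
    refine ⟨⟨w, hw, hwa⟩, ⟨w * u, hwu, hwua⟩, fun h => hne (congrArg Subtype.val h), ?_⟩
    ext x
    simp only [Set.mem_insert_iff, Set.mem_singleton_iff, Set.mem_univ, iff_true]
    exact (hcases x.1 (D.orderOf_of_conj x.2.1) x.2.2).imp (fun h => Subtype.ext h) fun h => Subtype.ext h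
  have hf := D.formula
  rw [D.gamma_one hstab, hβ, one_mul] at hf
  have h2 := D.two_le_fixCard
  have hle := fixCard_le (Ω := Y) u
  obtain ⟨q, hq⟩ : ∃ q, fixCard Y u = q + 2 := ⟨fixCard Y u - 2, by omega⟩
  rw [hq, show q + 2 - 1 = q + 1 by omega] at hf
  rw [hq] at hle
  rw [hq, show 2 * (q + 2) - 1 = 2 * q + 3 by omega]
  have : (q + 2) * (2 * q + 3) = (q + 2) + 2 * ((q + 2) * (q + 1)) := by ring
  omega

theorem unique_conj_swap [FaithfulSMul X Y] {w : X} (hw : orderOf w = 2) (hwa : w • a = b) (hwn : ¬ IsConj u w) :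
    IsConj u (w * u) ∧ (∀ x, IsConj u x → x • a = b → x = w * u) ∧
      ∀ x, orderOf x = 2 → ¬ IsConj u x → x • a = b → x = w := by
  obtain ⟨-, -, -, hcases⟩ := swap_two D hstab hw hwa
  obtain ⟨x₀, hx₀, hx₀a⟩ := D.exists_conj_swap
  have h : ∀ x, IsConj u x → x • a = b → x = w * u := fun x hx hxa =>
    (hcases x (D.orderOf_of_conj hx) hxa).resolve_left fun e => hwn (e ▸ hx)
  have hwu : IsConj u (w * u) := h x₀ hx₀ hx₀a ▸ hx₀
  exact ⟨hwu, h, fun x hx hxn hxa => (hcases x hx hxa).resolve_right fun e => hxn (e ▸ hwu)⟩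

theorem card_of_one [FaithfulSMul X Y] {w : X} (hw : orderOf w = 2) (hwa : w • a = b) (hwn : ¬ IsConj u w) :
    Nat.card Y = fixCard Y u * fixCard Y u := by
  obtain ⟨hwu, h, -⟩ := unique_conj_swap D hstab hw hwa hwn
  obtain ⟨-, -, hwua, -⟩ := swap_two D hstab hw hwa
  have hβ : InvData.beta a b u = 1 := by
    rw [InvData.beta, Nat.card_eq_one_iff_unique]
    exact ⟨⟨fun x y => Subtype.ext ((h x.1 x.2.1 x.2.2).trans (h y.1 y.2.1 y.2.2).symm)⟩, ⟨⟨w * u, hwu, hwua⟩⟩⟩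
  have hf := D.formula
  rw [D.gamma_one hstab, hβ, one_mul, one_mul] at hf
  have h2 := D.two_le_fixCard
  have hle := fixCard_le (Ω := Y) u
  obtain ⟨q, hq⟩ : ∃ q, fixCard Y u = q + 1 := ⟨fixCard Y u - 1, by omega⟩
  rw [hq, Nat.add_sub_cancel] at hf
  rw [hq] at hle
  rw [hq]
  have : (q + 1) * (q + 1) = (q + 1) + (q + 1) * q := by ring
  omega

theorem kernel_even [FaithfulSMul X Y] (heven : Even (Nat.card Y)) {w : X} (hw : orderOf w = 2) (hwa : w • a = b)
    (hwn : ¬ IsConj u w) : ∃ (m : ℕ) (N : Subgroup X), RegularKernel Y 2 N ∧ 0 < m ∧ fixCard Y u = 2 ^ m ∧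
      Nat.card Y = 2 ^ m * 2 ^ m ∧ ∀ x ∈ N, x ≠ 1 → orderOf x = 2 ∧ ¬ IsConj u x := by
  obtain ⟨-, h, h'⟩ := unique_conj_swap D hstab hw hwa hwn
  exact D.translations_of_two hstab heven (fun x y hx hxa hy hya => (h x hx hxa).trans (h y hy hya).symm)
    (fun x y hx hxn hxa hy hyn hya => (h' x hx hxn hxa).trans (h' y hy hyn hya).symm) hw hwn hwa

theorem kernel_odd [FaithfulSMul X Y] (hodd : Odd (Nat.card Y)) {w : X} (hw : orderOf w = 2) (hwa : w • a = b)
    (hwn : ¬ IsConj u w) : ∃ (p : ℕ) (N : Subgroup X), RegularKernel Y p N := by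
  obtain ⟨-, -, h'⟩ := unique_conj_swap D hstab hw hwa hwn
  refine exists_kernel_odd D hstab hodd (Nat.card_eq_one_iff_unique.2 ⟨⟨fun x y => Subtype.ext ?_⟩, ⟨⟨w, hw, hwn, hwa⟩⟩⟩)
  rw [h' x.1 x.2.1 x.2.2.1 x.2.2.2, h' y.1 y.2.1 y.2.2.1 y.2.2.2]

end CfsgLib.KimuraFive
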